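import Cfsg.Agent.H576.Ext.Levi
import Cfsg.Agent.S0148

/-!
# Semisimilarities and Harish-Chandra induced characters (helper576, S4832)

* `hc_semi` : `F.hc c 1 (γ g γ⁻¹) = F.hc (c ∘ τ) 1 g`;
* `eq_one_of_fix` : a semisimilarity fixing a constituent of `F.hc c 1` on `N` has `τ = 1`;
* `DOrth.mono`, `DIrr.mono`.
-/

set_option autoImplicit false

open scoped ComplexConjugate
open Cfsg

namespace Cfsg.Agent.H576.Ext

open Cfsg.Agent.H477.HC Cfsg.Agent.H53.HC Cfsg.Agent.Characters Cfsg.Agent.OddOrderCharacters.Clifford Module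
  Cfsg.Agent.H477.HC.CForm MulAction

universe u v w

section Mono

variable {K : Type u} [Field K] [Finite K] {k : ℕ}

theorem DOrth.mono {D D' : Subgroup Kˣ} (h : D ≤ D') {c c' : GL (Fin k) K → ℂ} (hc : IsCharacter _ c)
    (hc' : IsCharacter _ c') (h0 : DOrth D c c') : DOrth D' c c' := by
  classical
  intro _
  let _ : Fintype (DL D k) := Fintype.ofFinite _
  have hle : DL D k ≤ DL D' k := Subgroup.comap_mono h
  have hα : IsCharacter (DL D' k) (c ∘ (DL D' k).subtype) := Core.isCharacter_comp _ hc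
  have hβ : IsCharacter (DL D' k) (c' ∘ (DL D' k).subtype) := Core.isCharacter_comp _ hc'
  have h1 : ∑ A : DL D k, c A * conj (c' A) = 0 := h0
  have h2 := classInner_eq_zero_of_comp (Subgroup.inclusion hle) hα hβ (by
    rw [Core.classInner_def]
    have : ∑ g : DL D k, ((c ∘ (DL D' k).subtype) ∘ (Subgroup.inclusion hle)) g *
        conj (((c' ∘ (DL D' k).subtype) ∘ (Subgroup.inclusion hle)) g) = 0 := h1
    rw [this, mul_zero])
  rw [Core.classInner_def] at h2
  exact (mul_eq_zero.1 h2).resolve_left (inv_ne_zero Core.card_ne_zero_complex)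

theorem DIrr.mono {D D' : Subgroup Kˣ} (h : D ≤ D') {c : GL (Fin k) K → ℂ} (hc : IsCharacter _ c)
    (h0 : DIrr D c) : DIrr D' c := by
  have hle : DL D k ≤ DL D' k := Subgroup.comap_mono h
  have hα : IsCharacter (DL D' k) (c ∘ (DL D' k).subtype) := Core.isCharacter_comp _ hc
  exact CharactersDeep.MaxInduced.isIrr_of_comp (Subgroup.inclusion hle) hα h0

theorem fmap_irr (τ : K ≃+* K) {c : GL (Fin k) K → ℂ} (hc : IsIrrCharacter _ c) :
    IsIrrCharacter _ (fmap (τ : K →+* K) c) := by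
  refine Core.isIrr_comp (Matrix.GeneralLinearGroup.map (τ : K →+* K)) (fun A => ?_) hc
  refine ⟨Matrix.GeneralLinearGroup.map (τ.symm : K →+* K) A, ?_⟩
  ext i j
  change τ (τ.symm _) = _
  rw [RingEquiv.apply_symm_apply]

end Mono

section Char

variable {G : Type u} [Group G] {Ω : Type v} [MulAction G Ω]

/-- sums over fixed points of characters are characters -/
theorem isCharacter_orbSum [Fintype G] [Fintype Ω] (φ : G → Ω → ℂ)
    (hφ : ∀ (x g : G) (ω : Ω), φ (x * g * x⁻¹) (x • ω) = φ g ω)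
    (hc : ∀ ω, IsCharacter (stabilizer G ω) (stabFun φ ω)) : IsCharacter G (orbSum φ) := by
  classical
  have hfin : Finite (orbitRel.Quotient G Ω) := Quotient.finite _
  let _ : Fintype (orbitRel.Quotient G Ω) := Fintype.ofFinite _
  let _ : ∀ X : orbitRel.Quotient G Ω, Fintype X.orbit := fun X => Fintype.ofFinite _
  rw [orbSum_sigma φ]
  refine Core.isCharacter_sum _ fun X _ => ?_
  have : IsPretransitive G X.orbit := by
    refine ⟨fun a b => ?_⟩
    have ha : (Quotient.mk'' (a : Ω) : orbitRel.Quotient G Ω) = X := orbitRel.Quotient.mem_orbit.1 a.2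
    have hb : (Quotient.mk'' (b : Ω) : orbitRel.Quotient G Ω) = X := orbitRel.Quotient.mem_orbit.1 b.2
    have h1 : (b : Ω) ∈ orbit G (a : Ω) := by
      rw [← orbitRel_apply]
      exact Quotient.exact (hb.trans ha.symm)
    obtain ⟨g, hg⟩ := h1
    exact ⟨g, Subtype.ext hg⟩
  obtain ⟨ω₀, hω₀⟩ : X.orbit.Nonempty := orbitRel.Quotient.nonempty_orbit X
  rw [orbSum_eq_indFun (fun g (ω : X.orbit) => φ g ω) (fun x g ω => hφ x g ω) ⟨ω₀, hω₀⟩]
  refine Cfsg.Agent.S0148.result _ _ ?_
  let f : stabilizer G (⟨ω₀, hω₀⟩ : X.orbit) →* stabilizer G ω₀ :=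
    { toFun := fun g => ⟨g, by
        have := g.2
        rw [mem_stabilizer_iff, Subtype.ext_iff] at this
        exact mem_stabilizer_iff.2 this⟩
      map_one' := rfl
      map_mul' := fun _ _ => rfl }
  exact Core.isCharacter_comp f (hc ω₀)

/-- characters with a common constituent -/
theorem inner_ne_zero_of_common [Fintype G] {α β θ : G → ℂ} (hα : IsCharacter G α) (hβ : IsCharacter G β)
    (hθ : IsIrrCharacter G θ) (h1 : classInner α θ ≠ 0) (h2 : classInner β θ ≠ 0) : classInner α β ≠ 0 := by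
  classical
  have ha := isCharacter_sub_irr hα hθ h1
  have hb := isCharacter_sub_irr hβ hθ h2
  obtain ⟨a, ha'⟩ := Core.classInner_isNat ha hb
  obtain ⟨b, hb'⟩ := Core.classInner_isNat ha (Core.isIrr_isCharacter hθ)
  obtain ⟨c, hc'⟩ := Core.classInner_isNat (Core.isIrr_isCharacter hθ) hb
  have h3 : classInner α β = a + b + c + 1 := by
    have e1 : α = (α - θ) + θ := by abel
    have e2 : β = (β - θ) + θ := by abel
    rw [e1, e2, Core.classInner_add_left, Core.classInner_add_right, Core.classInner_add_right, ha', hb', hc',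
      Core.classInner_irr_self hθ]
    ring
  rw [h3]
  exact_mod_cast (by omega : a + b + c + 1 ≠ 0)

end Char

variable {K : Type u} [Field K] {V : Type v} [AddCommGroup V] [Module K V] (F : CForm K V)

/-- `F.hc c 1` is a character of `N` -/
theorem isCharacter_hc' [Finite K] [FiniteDimensional K V] [Finite V] {k : ℕ} [Fintype (F.Om k)] (N : Subgroup F.iso)
    {c : GL (Fin k) K → ℂ} (hc : IsCharacter _ c) : IsCharacter N (fun n : N => F.hc c (fun _ _ => 1) n) := by
  classical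
  letI := omAct F N k
  have hG : Finite (V ≃ₗ[K] V) := Finite.of_injective (fun e : V ≃ₗ[K] V => (e : V → V)) DFunLike.coe_injective
  let _ : Fintype N := Fintype.ofFinite _
  have e : (fun n : N => F.hc c (fun _ _ => 1) n) = orbSum (lt F N c) := funext fun n => hc_eq_orbSum' F N c n
  rw [e]
  exact isCharacter_orbSum (lt F N c) (lt_conj F N (Core.isCharacter_isClassFunction hc)) (isCharacter_stabFun F N hc)

/-- the image of a subspace under a semilinear bijection -/
def smap (τ : K ≃+* K) (γ : V ≃+ V) (hγ : ∀ (a : K) (v : V), γ (a • v) = τ a • γ v) (W : Submodule K V) :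
    Submodule K V where
  carrier := γ '' W
  zero_mem' := ⟨0, W.zero_mem, map_zero γ⟩
  add_mem' := by
    rintro _ _ ⟨a, ha, rfl⟩ ⟨b, hb, rfl⟩
    exact ⟨a + b, W.add_mem ha hb, map_add γ a b⟩
  smul_mem' := by
    rintro c _ ⟨a, ha, rfl⟩
    exact ⟨τ.symm c • a, W.smul_mem _ ha, by rw [hγ, RingEquiv.apply_symm_apply]⟩

theorem mem_smap {τ : K ≃+* K} {γ : V ≃+ V} {hγ : ∀ (a : K) (v : V), γ (a • v) = τ a • γ v} {W : Submodule K V}
    {v : V} : γ v ∈ smap τ γ hγ W ↔ v ∈ W := by
  constructor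
  · rintro ⟨w, hw, h⟩
    rw [← γ.injective h]
    exact hw
  · intro h
    exact ⟨v, h, rfl⟩

theorem smap_injective (τ : K ≃+* K) (γ : V ≃+ V) (hγ : ∀ (a : K) (v : V), γ (a • v) = τ a • γ v) :
    Function.Injective (smap τ γ hγ) := by
  intro W W' h
  ext v
  rw [← mem_smap (τ := τ) (hγ := hγ), h, mem_smap]

theorem finrank_smap [Finite K] [Finite V] (τ : K ≃+* K) (γ : V ≃+ V)
    (hγ : ∀ (a : K) (v : V), γ (a • v) = τ a • γ v) (W : Submodule K V) :
    finrank K (smap τ γ hγ W) = finrank K W := by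
  have h1 : Nat.card (smap τ γ hγ W) = Nat.card W := by
    refine (Nat.card_congr (Equiv.ofBijective (fun w : W => (⟨γ w, w, w.2, rfl⟩ : smap τ γ hγ W)) ⟨?_, ?_⟩)).symm
    · intro a b h
      exact Subtype.ext (γ.injective (congrArg Subtype.val h))
    · rintro ⟨_, w, hw, rfl⟩
      exact ⟨⟨w, hw⟩, rfl⟩
  have h2 : Nat.card (smap τ γ hγ W) = Nat.card K ^ finrank K (smap τ γ hγ W) := Module.natCard_eq_pow_finrank
  have h3 : Nat.card W = Nat.card K ^ finrank K W := Module.natCard_eq_pow_finrank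
  rw [h2, h3] at h1
  exact Nat.pow_right_injective (Finite.one_lt_card (α := K)) h1

/-- **semisimilarities** -/
theorem hc_semi [Finite K] [FiniteDimensional K V] [Finite V] {k : ℕ} [Fintype (F.Om k)] {c : GL (Fin k) K → ℂ}
    (hc : IsClassFunction _ c) (τ : K ≃+* K) (γ : V ≃+ V) (hγ : ∀ (a : K) (v : V), γ (a • v) = τ a • γ v)
    (hB : ∀ v w, F.B (γ v) (γ w) = 0 ↔ F.B v w = 0) (hQ : ∀ v, F.Q (γ v) = 0 ↔ F.Q v = 0) (g g' : F.iso)
    (h : ∀ v, (g' : V ≃ₗ[K] V) (γ v) = γ ((g : V ≃ₗ[K] V) v)) :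
    F.hc c (fun _ _ => 1) g' = F.hc (fmap (τ : K →+* K) c) (fun _ _ => 1) g := by
  classical
  have hmem : ∀ W ∈ F.Om k, smap τ γ hγ W ∈ F.Om k := by
    rintro W ⟨⟨h1, h2⟩, h3⟩
    refine ⟨⟨?_, ?_⟩, by rw [finrank_smap, h3]⟩
    · rintro _ ⟨w, hw, rfl⟩
      exact (hQ w).2 (h1 w hw)
    · rintro _ ⟨w, hw, rfl⟩ _ ⟨w', hw', rfl⟩
      exact (hB w w').2 (h2 w hw w' hw')
  let e : F.Om k → F.Om k := fun W => ⟨smap τ γ hγ W.1, hmem W.1 W.2⟩
  have he : Function.Bijective e := by
    rw [← Finite.injective_iff_bijective]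
    intro W W' hW
    exact Subtype.ext (smap_injective τ γ hγ (congrArg Subtype.val hW))
  unfold CForm.hc
  rw [← (Equiv.ofBijective e he).sum_comp]
  refine Finset.sum_congr rfl fun W _ => ?_
  rw [mul_one, mul_one]
  change flagTerm F.iso.subtype c g' (smap τ γ hγ W.1) = flagTerm F.iso.subtype (fmap (τ : K →+* K) c) g W.1
  have hinv : (smap τ γ hγ W.1).map (F.iso.subtype g' : V →ₗ[K] V) = smap τ γ hγ W.1 ↔
      W.1.map (F.iso.subtype g : V →ₗ[K] V) = W.1 := by
    have e1 : (smap τ γ hγ W.1).map (F.iso.subtype g' : V →ₗ[K] V) =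
        smap τ γ hγ (W.1.map (F.iso.subtype g : V →ₗ[K] V)) := by
      ext v
      constructor
      · rintro ⟨_, ⟨w, hw, rfl⟩, rfl⟩
        exact ⟨(g : V ≃ₗ[K] V) w, ⟨w, hw, rfl⟩, (h w).symm⟩
      · rintro ⟨_, ⟨w, hw, rfl⟩, rfl⟩
        exact ⟨γ w, ⟨w, hw, rfl⟩, h w⟩
    rw [e1]
    exact (smap_injective τ γ hγ).eq_iff
  have hc' : IsClassFunction _ (fmap (τ : K →+* K) c) := fun x y => by
    change c (Matrix.GeneralLinearGroup.map (τ : K →+* K) (y * x * y⁻¹)) = c (Matrix.GeneralLinearGroup.map (τ : K →+* K) x)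
    rw [map_mul, map_mul, map_inv]
    exact hc _ _
  by_cases h1 : W.1.map (F.iso.subtype g : V →ₗ[K] V) = W.1
  · have h1' := hinv.2 h1
    let b : Basis (Fin k) K W.1 := finBasisOfFinrankEq K W.1 W.2.2
    let b'v : Fin k → smap τ γ hγ W.1 := fun i => ⟨γ (b i), b i, (b i).2, rfl⟩
    have hli : LinearIndependent K b'v := by
      rw [Fintype.linearIndependent_iff]
      intro a ha i
      have h2 : γ (∑ j, τ.symm (a j) • (b j : V)) = 0 := by
        rw [map_sum]
        have h3 := congrArg Subtype.val ha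
        rw [Submodule.coe_sum] at h3
        rw [← Submodule.coe_zero (p := smap τ γ hγ W.1), ← h3]
        refine Finset.sum_congr rfl fun j _ => ?_
        rw [hγ, RingEquiv.apply_symm_apply]
        rfl
      have h3 : ∑ j, τ.symm (a j) • b j = 0 := by
        apply Subtype.ext
        rw [Submodule.coe_sum, Submodule.coe_zero, ← (γ.map_eq_zero_iff).1 h2]
        rfl
      have h4 := Fintype.linearIndependent_iff.1 b.linearIndependent _ h3 i
      have := congrArg τ h4
      rwa [RingEquiv.apply_symm_apply, map_zero] at this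
    let b' : Basis (Fin k) K (smap τ γ hγ W.1) := Basis.mk hli
      (by rw [hli.span_eq_top_of_card_eq_finrank' (by rw [Fintype.card_fin, finrank_smap, W.2.2])])
    have hb' : ∀ i, ((b' i : smap τ γ hγ W.1) : V) = γ (b i) := fun i => by
      rw [Basis.mk_apply]
    rw [flagTerm_of F.iso.subtype _ h1', flagTerm_of F.iso.subtype _ h1, cl_eq hc b', cl_eq hc' b]
    change _ = c (Matrix.GeneralLinearGroup.map (τ : K →+* K) (glE b (res (F.iso.subtype g) W.1 h1)))
    congr 1
    ext i j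
    rw [coe_glE, LinearMap.toMatrix_apply]
    change _ = τ ((glE b (res (F.iso.subtype g) W.1 h1) : Matrix (Fin k) (Fin k) K) i j)
    rw [coe_glE, LinearMap.toMatrix_apply]
    have h5 : (res (F.iso.subtype g') (smap τ γ hγ W.1) h1' : smap τ γ hγ W.1 →ₗ[K] smap τ γ hγ W.1) (b' j) =
        ∑ m, τ (b.repr (res (F.iso.subtype g) W.1 h1 (b j)) m) • b' m := by
      apply Subtype.ext
      rw [Submodule.coe_sum]
      change (g' : V ≃ₗ[K] V) ((b' j : smap τ γ hγ W.1) : V) = _
      rw [hb', h]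
      have h6 : (g : V ≃ₗ[K] V) (b j) = ∑ m, b.repr (res (F.iso.subtype g) W.1 h1 (b j)) m • (b m : V) := by
        have h7 := congrArg Subtype.val (b.sum_repr (res (F.iso.subtype g) W.1 h1 (b j)))
        rw [Submodule.coe_sum] at h7
        exact h7.symm
      rw [h6, map_sum]
      refine Finset.sum_congr rfl fun m _ => ?_
      rw [hγ, ← hb']
      rfl
    rw [h5, map_sum, Finset.sum_apply']
    rw [Finset.sum_eq_single i]
    · rw [map_smul, Finsupp.smul_apply, Basis.repr_self, Finsupp.single_eq_same, smul_eq_mul, mul_one]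
      rfl
    · intro m _ hm
      rw [map_smul, Finsupp.smul_apply, Basis.repr_self, Finsupp.single_eq_of_ne (Ne.symm hm), smul_zero]
    · intro h8; exact absurd (Finset.mem_univ _) h8
  · have h1' := fun h2 => h1 (hinv.1 h2)
    unfold flagTerm
    rw [dif_neg h1, dif_neg h1']

/-- **no field automorphisms** -/
theorem eq_one_of_fix [Finite K] [FiniteDimensional K V] [Finite V] {k : ℕ} [Fintype (F.Om k)] (hk : 2 ≤ k)
    {N : Subgroup F.iso} [Fintype N] {D : Subgroup Kˣ} (hN : HasRoots F N) (hD : HasLevi F N D k)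
    {c : GL (Fin k) K → ℂ} (hc : IsIrrCharacter _ c) (hcusp : IsCusp c) (τ : K ≃+* K)
    (h1 : DOrth D c (fmap (τ : K →+* K) c)) (h2 : DOrth D c (dualc F.σ (fmap (τ : K →+* K) c))) {θ : N → ℂ}
    (hθ : IsIrrCharacter N θ) (h0 : classInner (fun n : N => F.hc c (fun _ _ => 1) n) θ ≠ 0)
    (γ : V ≃+ V) (hγ : ∀ (a : K) (v : V), γ (a • v) = τ a • γ v)
    (hB : ∀ v w, F.B (γ v) (γ w) = 0 ↔ F.B v w = 0) (hQ : ∀ v, F.Q (γ v) = 0 ↔ F.Q v = 0) (α : N ≃* N)
    (hα : ∀ (n : N) (v : V), ((α n : F.iso) : V ≃ₗ[K] V) (γ v) = γ (((n : F.iso) : V ≃ₗ[K] V) v))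
    (hfix : ∀ n : N, θ (α n) = θ n) : False := by
  classical
  have hc' := fmap_irr τ hc
  have e1 : ∀ n : N, F.hc c (fun _ _ => 1) (α n) = F.hc (fmap (τ : K →+* K) c) (fun _ _ => 1) n := fun n =>
    hc_semi F (Core.isIrr_isClassFunction hc) τ γ hγ hB hQ (n : F.iso) (α n : F.iso) (hα n)
  have e2 : classInner (fun n : N => F.hc (fmap (τ : K →+* K) c) (fun _ _ => 1) n) θ =
      classInner (fun n : N => F.hc c (fun _ _ => 1) n) θ := by
    rw [Core.classInner_def, Core.classInner_def]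
    congr 1
    rw [← Equiv.sum_comp α.toEquiv (fun n : N => F.hc c (fun _ _ => 1) n * conj (θ n))]
    refine Finset.sum_congr rfl fun n _ => ?_
    change _ = F.hc c (fun _ _ => 1) (α n) * conj (θ (α n))
    rw [e1, hfix]
  refine inner_ne_zero_of_common (isCharacter_hc' F N (Core.isIrr_isCharacter hc))
    (isCharacter_hc' F N (Core.isIrr_isCharacter hc')) hθ h0 (by rw [e2]; exact h0) ?_
  rw [Core.classInner_def, hc_orth F hk hN hD hc hc' hcusp h1 h2, mul_zero]

end Cfsg.Agent.H576.Ext
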