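import Cfsg.Agent.H67.ExtBase
import Cfsg.Agent.H846.Ext.Free
import Cfsg.Agent.H55.Ext.Exc
import Cfsg.Agent.H907.ExtFree
import Cfsg.Agent.H732.ExtPSL.Row
import Cfsg.Agent.H980.ExtConv
import Cfsg.Agent.H525.ExtMult
import Cfsg.Agent.H993.ExtPSp
import Cfsg.Agent.H993.ExtOmegaOdd
import Cfsg.Agent.H624.ExtOrthRows
import Cfsg.Agent.H809.D4.Row
import Cfsg.Agent.H212.Ext.U3Row
import Cfsg.Agent.H804.Ext.RowsE
import Cfsg.Agent.H328.Ext.PsuFin
import Cfsg.Agent.H804.Ext.RowTw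

/-!
# Assembly of S4832 (helper576)

`hasExt_known` : some character of degree divisible by `p` extends to its stabiliser, for the known simple groups.
-/

set_option autoImplicit false

open Cfsg

namespace Cfsg.Agent.H576.Ext

universe u

section

variable {S : Type u} [Group S] [Finite S] {p : ℕ} [hp : Fact p.Prime]

/-- the prime is the characteristic -/
theorem charP_of_dvd {F : Type} [Field F] [Fintype F] (h : p ∣ Fintype.card F) : CharP F p := by
  obtain ⟨s, f, hs, hf, hF⟩ := Cfsg.Agent.H907.ExtFree.exists_card F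
  have h1 : p = s := (Nat.prime_dvd_prime_iff_eq hp.1 hs).1 (hp.1.dvd_of_dvd_pow (hF ▸ h))
  subst h1
  exact charP_of_card_eq_prime_pow hF

theorem of_row [IsSimpleGroup S] (hna : ¬ IsMulCommutative S) {X : Type} [Group X] (e : S ≃* X)
    (h : IsSimpleGroup X → ¬ IsMulCommutative X → HasExt p X) : HasExt p S := by
  have hnt : Nontrivial X := e.symm.toEquiv.nontrivial
  have hs' : IsSimpleGroup X := IsSimpleGroup.isSimpleGroup_of_surjective e.toMonoidHom e.surjective
  exact HasExt.of_equiv e (h hs' fun hc => hna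
    ⟨⟨fun x y => e.injective (by rw [map_mul, map_mul]; exact hc.is_comm.comm _ _)⟩⟩)

theorem row_alt [IsSimpleGroup S] (hna : ¬ IsMulCommutative S) (him : Cfsg.Agent.H671.H5.IM p S) (h : IsAlternating S)
    (hd : p ∣ Nat.card S) : HasExt p S := by
  obtain ⟨n, hn, he⟩ := h
  by_cases h6 : n = 6
  · subst h6
    exact Cfsg.Agent.H846.Ext.hasExt_alt_six he hp.1 hd
  · exact hasExt_of_sylCyc hna (Cfsg.Agent.H846.Ext.sylCyc_alt hn h6 he) him

theorem row_isPSL [IsSimpleGroup S] (h : IsPSL S) (hd : p ∣ Nat.card S) : HasExt p S := by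
  obtain ⟨F, _, _, n, hn, h4, ⟨e⟩⟩ := h
  by_cases hpF : p ∣ Fintype.card F
  · have := charP_of_dvd hpF
    exact hasExt_char (Or.inl ⟨F, inferInstance, inferInstance, inferInstance, n, hn, h4, ⟨e⟩⟩) hd
  by_cases h2 : n = 2
  · subst h2
    exact HasExt.of_equiv e (Cfsg.Agent.H980.Ext.hasExt_psl2 (h4 rfl) (by rwa [← Nat.card_congr e.toEquiv]) hpF)
  · exact Cfsg.Agent.H732.ExtPSL.row_psl_of_equiv (by omega) e hp.1 hd

theorem row_isPSp [hs : IsSimpleGroup S] (hna : ¬ IsMulCommutative S) (him : Cfsg.Agent.H671.H5.IM p S)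
    (h : IsPSp S) (hd : p ∣ Nat.card S) : HasExt p S := by
  obtain ⟨F, _, _, m, hm, h3, ⟨e⟩⟩ := h
  by_cases hpF : p ∣ Fintype.card F
  · have := charP_of_dvd hpF
    exact hasExt_char (Or.inr (Or.inl ⟨F, inferInstance, inferInstance, inferInstance, m, hm, h3, ⟨e⟩⟩)) hd
  have hnt : Nontrivial (PSp m F) := e.symm.toEquiv.nontrivial
  have hs' : IsSimpleGroup (PSp m F) := IsSimpleGroup.isSimpleGroup_of_surjective e.toMonoidHom e.surjective
  have hna' : ¬ IsMulCommutative (PSp m F) := fun hc => hna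
    ⟨⟨fun x y => e.injective (by rw [map_mul, map_mul]; exact hc.is_comm.comm _ _)⟩⟩
  by_cases hq : Even (Fintype.card F) ∨ ¬ IsSquare (Fintype.card F)
  · exact hasExt_of_sylCyc hna (SylCyc.of_equiv e (Cfsg.Agent.H907.ExtFree.sylCyc_psp hm hq hs' hna')) him
  · rw [not_or, not_not, Nat.not_even_iff_odd] at hq
    refine HasExt.of_equiv e (Cfsg.Agent.H993.ExtPSp.row_psp F hm (by rw [Nat.card_eq_fintype_card]; exact hq.1) ?_ hna'
      hp.1 (by rwa [Nat.card_eq_fintype_card]) (by rwa [← Nat.card_congr e.toEquiv]))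
    rw [Nat.card_eq_fintype_card]
    obtain ⟨k, hk⟩ := hq.2
    have h1 : 1 < Fintype.card F := Fintype.one_lt_card
    have h2 : Odd k := (Nat.odd_mul.1 (hk ▸ hq.1)).1
    rcases k with _ | _ | _ | k
    · omega
    · omega
    · exact absurd h2 (by decide)
    · rw [hk]; nlinarith

theorem row_isPSU [IsSimpleGroup S] (hna : ¬ IsMulCommutative S) (h : IsPSU S) (hd : p ∣ Nat.card S) :
    HasExt p S := by
  obtain ⟨F, _, _, n, q, hF, hn, h32, ⟨e⟩⟩ := h
  by_cases hpF : p ∣ Fintype.card F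
  · have := charP_of_dvd hpF
    exact hasExt_char (Or.inr (Or.inr (Or.inl ⟨F, inferInstance, inferInstance, inferInstance, n, q, hF, hn, h32, ⟨e⟩⟩))) hd
  have h1 : 1 < Fintype.card F := Fintype.one_lt_card
  have hq2 : 2 ≤ q := by
    rcases q with _ | _ | q
    · rw [hF] at h1; norm_num at h1
    · rw [hF] at h1; norm_num at h1
    · omega
  by_cases h3 : n = 3
  · subst h3
    exact Cfsg.Agent.H212.Ext.row_psu_three hna hF (by
      rcases Nat.lt_or_ge q 3 with h | h
      · exact absurd ⟨rfl, by omega⟩ h32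
      · exact h) e hp.1 (fun h => hpF (by rw [hF]; exact h.trans (dvd_pow_self q two_ne_zero))) hd
  · exact HasExt.of_equiv e (Cfsg.Agent.H328.Ext.row_psu hF (by omega) hp.1 hpF (by rwa [← Nat.card_congr e.toEquiv]))

theorem row_isOdd [IsSimpleGroup S] (hna : ¬ IsMulCommutative S) (him : Cfsg.Agent.H671.H5.IM p S)
    (h : IsPOmegaOdd S) (hd : p ∣ Nat.card S) : HasExt p S := by
  obtain ⟨F, _, _, m, hm, ho, ⟨e⟩⟩ := h
  by_cases hpF : p ∣ Fintype.card F
  · have := charP_of_dvd hpF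
    exact hasExt_char (Or.inr (Or.inr (Or.inr (Or.inl ⟨F, inferInstance, inferInstance, inferInstance, m, hm, ho, ⟨e⟩⟩)))) hd
  by_cases hq : IsSquare (Fintype.card F)
  · refine HasExt.of_equiv e (Cfsg.Agent.H993.ExtOmegaOdd.row_omega_odd F hm (by rw [Nat.card_eq_fintype_card]; exact ho)
      ?_ hp.1 (by rwa [Nat.card_eq_fintype_card]) (by rwa [← Nat.card_congr e.toEquiv]))
    rw [Nat.card_eq_fintype_card]
    obtain ⟨k, hk⟩ := hq
    have h1 : 1 < Fintype.card F := Fintype.one_lt_card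
    have h2 : Odd k := (Nat.odd_mul.1 (hk ▸ ho)).1
    rcases k with _ | _ | _ | k
    · omega
    · omega
    · exact absurd h2 (by decide)
    · rw [hk]; nlinarith
  · exact hasExt_of_sylCyc hna (SylCyc.of_equiv e (Cfsg.Agent.H907.ExtFree.sylCyc_oodd hm ho hq)) him

theorem row_isPlus [IsSimpleGroup S] (hna : ¬ IsMulCommutative S) (him : Cfsg.Agent.H671.H5.IM p S)
    (h : IsPOmegaPlus S) (hd : p ∣ Nat.card S) : HasExt p S := by
  obtain ⟨F, _, _, m, hm, ⟨e⟩⟩ := h
  by_cases hpF : p ∣ Fintype.card F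
  · have := charP_of_dvd hpF
    exact hasExt_char (Or.inr (Or.inr (Or.inr (Or.inr (Or.inl ⟨F, inferInstance, inferInstance, inferInstance, m, hm, ⟨e⟩⟩))))) hd
  by_cases h4 : m = 4
  · subst h4
    exact HasExt.of_equiv e (Cfsg.Agent.H809.D4.row_omega_plus_four F hp.1 (by rwa [Nat.card_eq_fintype_card])
      (by rwa [← Nat.card_congr e.toEquiv]))
  · exact Cfsg.Agent.H624.ExtO.hasExt_plus hna (by omega) e hp.1 hd him

theorem row_isMinus [IsSimpleGroup S] (hna : ¬ IsMulCommutative S) (him : Cfsg.Agent.H671.H5.IM p S)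
    (h : IsPOmegaMinus S) (hd : p ∣ Nat.card S) : HasExt p S := by
  obtain ⟨F, _, _, m, a, b, hm, hab, ⟨e⟩⟩ := h
  exact Cfsg.Agent.H624.ExtO.hasExt_minus hna hm a b hab e hp.1 hd him

open Cfsg.Lie in
theorem row_isExc [IsSimpleGroup S] (hna : ¬ IsMulCommutative S) (him : Cfsg.Agent.H671.H5.IM p S)
    (h : IsExceptionalLieType S) (hd : p ∣ Nat.card S) : HasExt p S := by
  rcases h with h | h | h | h | h | h | h | h | h | h | h
  · exact hasExt_of_sylCyc hna (Cfsg.Agent.H55.Ext.sylCyc_g2 h) him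
  · exact hasExt_of_sylCyc hna (Cfsg.Agent.H55.Ext.sylCyc_f4 h) him
  · exact Cfsg.Agent.H804.Ext.hasExt_E6 h hd
  · exact Cfsg.Agent.H804.Ext.hasExt_E7 h hd
  · exact hasExt_of_sylCyc hna (Cfsg.Agent.H55.Ext.sylCyc_e8 h) him
  · exact Cfsg.Agent.H804.Ext.hasExt_2E6 h hd
  · exact hasExt_of_sylCyc hna (Cfsg.Agent.H55.Ext.sylCyc_3D4 h) him
  · exact hasExt_of_sylCyc hna (Cfsg.Agent.H55.Ext.sylCyc_suzuki h) him
  · exact hasExt_of_sylCyc hna (Cfsg.Agent.H55.Ext.sylCyc_ree h) him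
  · exact hasExt_of_sylCyc hna (Cfsg.Agent.H55.Ext.sylCyc_2F4 h) him
  · exact hasExt_of_sylCyc hna (Cfsg.Agent.H846.Ext.sylCyc_tits h) him

/-- Itô-Michler for a simple group gives a character of degree divisible by `p` -/
theorem im_of_iff [IsSimpleGroup S] (hna : ¬ IsMulCommutative S) (hd : p ∣ Nat.card S) (P : Sylow p S)
    (h : ((P : Subgroup S).Normal ∧ IsMulCommutative P) ↔
      ∀ χ : Cfsg.IrrCharacter S, ¬ p ∣ Cfsg.charDegree (χ : S → ℂ)) : Cfsg.Agent.H671.H5.IM p S := by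
  by_contra hc
  obtain ⟨hn, hab⟩ := h.2 fun χ h => hc ⟨χ, h⟩
  rcases hn.eq_bot_or_eq_top with h1 | h1
  · exact P.ne_bot_of_dvd_card hd h1
  · apply hna
    refine ⟨⟨fun x y => ?_⟩⟩
    have hx : x ∈ (P : Subgroup S) := h1 ▸ Subgroup.mem_top x
    have hy : y ∈ (P : Subgroup S) := h1 ▸ Subgroup.mem_top y
    exact congrArg Subtype.val (hab.is_comm.comm ⟨x, hx⟩ ⟨y, hy⟩)

theorem hasExt_known [IsSimpleGroup S] (hna : ¬ IsMulCommutative S) (him : Cfsg.Agent.H671.H5.IM p S)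
    (h : IsKnownSimple' S) (hd : p ∣ Nat.card S) : HasExt p S := by
  rcases h with h | h | h | h | h | h | h | h | h | h
  · exfalso
    apply hna
    have : Fact (Nat.card S).Prime := ⟨h⟩
    have h1 : IsCyclic S := isCyclic_of_prime_card rfl
    exact ⟨⟨fun a b => (IsCyclic.commGroup (α := S)).mul_comm a b⟩⟩
  · exact row_alt hna him h hd
  · exact row_isPSL h hd
  · exact row_isPSp hna him h hd
  · exact row_isPSU hna h hd
  · exact row_isOdd hna him h hd
  · exact row_isPlus hna him h hd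
  · exact row_isMinus hna him h hd
  · exact row_isExc hna him h hd
  · exact hasExt_of_sylCyc hna (Cfsg.Agent.H846.Ext.sylCyc_sporadic h) him

end

end Cfsg.Agent.H576.Ext
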