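import Cfsg.Agent.H576.Ext.Orth
import Cfsg.Agent.CharactersDeep.MaxInduced

/-!
# Two-parameter orthogonality, irreducibility and multiplicity one of `F.hc c 1` on `N` (helper576, S4832)
-/

set_option autoImplicit false

open scoped ComplexConjugate
open Cfsg

namespace Cfsg.Agent.H576.Ext

open Cfsg.Agent.H477.HC Cfsg.Agent.H53.HC Cfsg.Agent.Characters Cfsg.Agent.OddOrderCharacters.Clifford Module
  Cfsg.Agent.H477.HC.CForm MulAction

universe u v w

variable {K : Type u} [Field K] {V : Type v} [AddCommGroup V] [Module K V] (F : CForm K V)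

/-- the action of `N` on the totally singular `k`-subspaces -/
@[reducible] def omAct (N : Subgroup F.iso) (k : ℕ) : MulAction N (F.Om k) :=
  subAct (F.iso.subtype.comp N.subtype) (F.Om k) (fun g W hW => F.Om_map (g : F.iso) W hW)

/-- the local terms -/
noncomputable def lt (N : Subgroup F.iso) {k : ℕ} (c : GL (Fin k) K → ℂ) : N → F.Om k → ℂ :=
  fun n W => flagTerm F.iso.subtype c (n : F.iso) W.1

theorem mem_stab_iff (N : Subgroup F.iso) {k : ℕ} (W : F.Om k) (n : N) :
    letI := omAct F N k; n ∈ stabilizer N W ↔ (n : F.iso) ∈ stabW F.iso.subtype W.1 := by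
  letI := omAct F N k
  rw [mem_stabilizer_iff, mem_stabW]
  constructor
  · intro h
    exact congrArg Subtype.val h
  · intro h
    exact Subtype.ext h

theorem hc_eq_orbSum' (N : Subgroup F.iso) {k : ℕ} [Fintype (F.Om k)] (c : GL (Fin k) K → ℂ) (n : N) :
    F.hc c (fun _ _ => 1) n = letI := omAct F N k; orbSum (lt F N c) n := by
  classical
  letI := omAct F N k
  unfold hc orbSum
  refine Finset.sum_congr rfl fun W _ => ?_
  rw [mul_one]
  split_ifs with h
  · rfl
  · unfold flagTerm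
    rw [dif_neg]
    intro h'
    exact h (Subtype.ext h')

theorem lt_conj (N : Subgroup F.iso) {k : ℕ} {c : GL (Fin k) K → ℂ} (hc : IsClassFunction _ c) (x n : N)
    (W : F.Om k) : letI := omAct F N k; lt F N c (x * n * x⁻¹) (x • W) = lt F N c n W :=
  flagTerm_conj F.iso.subtype hc (x : F.iso) (n : F.iso) W.1

/-- the local term is a character of every group mapping to the stabiliser -/
theorem isCharacter_term [FiniteDimensional K V] {k : ℕ} {c : GL (Fin k) K → ℂ} (hc : IsCharacter _ c)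
    {W : Submodule K V} (hW : W ∈ F.Om k) {H : Type*} [Group H] (j : H →* stabW F.iso.subtype W) :
    IsCharacter H (fun h => flagTerm F.iso.subtype c (j h : F.iso) W) := by
  let b : Basis (Fin k) K W := finBasisOfFinrankEq K W hW.2
  have e : (fun h : H => flagTerm F.iso.subtype c (j h : F.iso) W) =
      c ∘ ((glE b).toMonoidHom.comp ((resHom F.iso.subtype W).comp j)) := by
    ext h
    rw [flagTerm_of F.iso.subtype c (j h).2, cl_eq (Core.isCharacter_isClassFunction hc) b]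
    rfl
  rw [e]
  exact Core.isCharacter_comp _ hc

theorem isCharacter_stabFun [FiniteDimensional K V] (N : Subgroup F.iso) {k : ℕ} {c : GL (Fin k) K → ℂ}
    (hc : IsCharacter _ c) (W : F.Om k) :
    letI := omAct F N k; IsCharacter (stabilizer N W) (stabFun (lt F N c) W) := by
  letI := omAct F N k
  let j : stabilizer N W →* stabW F.iso.subtype W.1 :=
    { toFun := fun n => ⟨(n : N), (mem_stab_iff F N W n).1 n.2⟩
      map_one' := rfl
      map_mul' := fun _ _ => rfl }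
  exact isCharacter_term F hc W.2 j

/-- a subgroup of `F.iso` in `N` on which two terms are orthogonal, as a subgroup of `N` -/
theorem van2_stab (N : Subgroup F.iso) {k : ℕ} {c c' : GL (Fin k) K → ℂ} (W W' : F.Om k)
    (h : Van2 F N c c' W.1 W'.1) :
    letI := omAct F N k; ∃ L : Subgroup N, L ≤ stabilizer N W ∧ L ≤ stabilizer N W' ∧
      ∀ [Fintype L], ∑ l : L, lt F N c l W * conj (lt F N c' l W') = 0 := by
  letI := omAct F N k
  obtain ⟨L, h1, h2, h3, h4⟩ := h
  refine ⟨L.subgroupOf N, fun l hl => (mem_stab_iff F N W l).2 (h2 hl), fun l hl => (mem_stab_iff F N W' l).2 (h3 hl),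
    fun {_} => ?_⟩
  have : Fintype L := Fintype.ofEquiv _ (Subgroup.subgroupOfEquivOfLe h1).toEquiv
  rw [← h4]
  exact Fintype.sum_equiv (Subgroup.subgroupOfEquivOfLe h1).toEquiv _ _ fun l => rfl

/-- **two-parameter orthogonality** -/
theorem hc_orth [Finite K] [FiniteDimensional K V] [Finite V] {k : ℕ} [Fintype (F.Om k)] (hk : 2 ≤ k)
    {N : Subgroup F.iso} [Fintype N] {D : Subgroup Kˣ} (hN : HasRoots F N) (hD : HasLevi F N D k)
    {c c' : GL (Fin k) K → ℂ} (hc : IsIrrCharacter _ c) (hc' : IsIrrCharacter _ c') (hcusp : IsCusp c)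
    (h1 : DOrth D c c') (h2 : DOrth D c (c' ∘ F.iota k)) :
    ∑ n : N, F.hc c (fun _ _ => 1) n * conj (F.hc c' (fun _ _ => 1) n) = 0 := by
  letI := omAct F N k
  have hcf := Core.isIrr_isClassFunction hc
  have hcf' := Core.isIrr_isClassFunction hc'
  simp_rw [hc_eq_orbSum' F N]
  exact orbSum_orth (lt F N c) (lt F N c') (isCharacter_stabFun F N (Core.isIrr_isCharacter hc))
    (isCharacter_stabFun F N (Core.isIrr_isCharacter hc')) fun W W' =>
    van2_stab F N W W' (van2 hk hN hD hcf hcf' hcusp h1 h2 W.2 W'.2)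

/-- the local term is irreducible on the stabiliser in `N` -/
theorem isIrr_stabFun [Finite K] [FiniteDimensional K V] [Finite V] {k : ℕ} {N : Subgroup F.iso} {D : Subgroup Kˣ}
    (hD : HasLevi F N D k) {c : GL (Fin k) K → ℂ} (hc : IsIrrCharacter _ c) (hirr : DIrr D c) (W : F.Om k) :
    letI := omAct F N k; IsIrrCharacter (stabilizer N W) (stabFun (lt F N c) W) := by
  classical
  letI := omAct F N k
  have hG : Finite (V ≃ₗ[K] V) := Finite.of_injective (fun e : V ≃ₗ[K] V => (e : V → V)) DFunLike.coe_injective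
  obtain ⟨W', hW', h0⟩ := F.exists_opp W.2
  let b : Basis (Fin k) K W.1 := finBasisOfFinrankEq K W.1 W.2.2
  obtain ⟨f, hf, hfv⟩ := exists_levi_hom hD W.2 hW' h0 b
  have hst : ∀ l ∈ leviD F N D W.1 W', l ∈ stabW F.iso.subtype W.1 := fun l hl => by
    obtain ⟨-, -, -, h, -⟩ := hl
    exact h.1
  let g : leviD F N D W.1 W' →* stabilizer N W :=
    { toFun := fun l => ⟨⟨l, l.2.1⟩, (mem_stab_iff F N W _).2 (hst l l.2)⟩
      map_one' := rfl
      map_mul' := fun _ _ => rfl }
  refine CharactersDeep.MaxInduced.isIrr_of_comp g (isCharacter_stabFun F N (Core.isIrr_isCharacter hc) W) ?_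
  have e : stabFun (lt F N c) W ∘ g = (fun A : DL D k => c A) ∘ f := by
    ext l
    change flagTerm F.iso.subtype c (l : F.iso) W.1 = c (f l : GL (Fin k) K)
    rw [flagTerm_of F.iso.subtype c (hst l l.2), cl_eq (Core.isIrr_isClassFunction hc) b, hfv l (hst l l.2)]
  rw [e]
  exact Core.isIrr_comp f hf hirr

/-- **irreducibility on `N`** -/
theorem isIrr_hc_sub [Finite K] [FiniteDimensional K V] [Finite V] {k : ℕ} [Fintype (F.Om k)] (hk : 2 ≤ k)
    {N : Subgroup F.iso} {D : Subgroup Kˣ} (hN : HasRoots F N) (hD : HasLevi F N D k)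
    {c : GL (Fin k) K → ℂ} (hc : IsIrrCharacter _ c) (hcusp : IsCusp c)
    (hirr : DIrr D c) (hopp : DOrth D c (c ∘ F.iota k)) {W₀ : Submodule K V} (hW₀ : W₀ ∈ F.Om k)
    (htr : ∀ W ∈ F.Om k, ∃ g ∈ N, W₀.map (F.iso.subtype g : V →ₗ[K] V) = W) :
    IsIrrCharacter N (fun n : N => F.hc c (fun _ _ => 1) n) := by
  classical
  letI := omAct F N k
  have hG : Finite (V ≃ₗ[K] V) := Finite.of_injective (fun e : V ≃ₗ[K] V => (e : V → V)) DFunLike.coe_injective
  let _ : Fintype N := Fintype.ofFinite _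
  have hcf := Core.isIrr_isClassFunction hc
  have : IsPretransitive N (F.Om k) := by
    refine ⟨fun W W' => ?_⟩
    obtain ⟨g, hgN, hg⟩ := htr W.1 W.2
    obtain ⟨g', hgN', hg'⟩ := htr W'.1 W'.2
    refine ⟨(⟨g', hgN'⟩ : N) * (⟨g, hgN⟩ : N)⁻¹, ?_⟩
    have e1 : (⟨g, hgN⟩ : N) • (⟨W₀, hW₀⟩ : F.Om k) = W := Subtype.ext hg
    have e2 : (⟨g', hgN'⟩ : N) • (⟨W₀, hW₀⟩ : F.Om k) = W' := Subtype.ext hg'
    rw [← e1, mul_smul, inv_smul_smul, e2]
  have e : (fun n : N => F.hc c (fun _ _ => 1) n) = orbSum (lt F N c) := funext fun n => hc_eq_orbSum' F N c n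
  rw [e]
  refine isIrr_orbSum (lt F N c) (lt_conj F N hcf) ⟨W₀, hW₀⟩ (isIrr_stabFun F hD hc hirr _) fun W hW => ?_
  exact van2_stab F N _ _ (van2_ne hk hN hD hcf hcf hcusp hopp hW₀ W.2 fun h => hW (Subtype.ext h))

/-- **multiplicity one on `N`** -/
theorem hc_mf [Finite K] [FiniteDimensional K V] [Finite V] {k : ℕ} [Fintype (F.Om k)] (hk : 2 ≤ k)
    {N : Subgroup F.iso} [Fintype N] {D : Subgroup Kˣ} (hN : HasRoots F N) (hD : HasLevi F N D k)
    {c : GL (Fin k) K → ℂ} (hc : IsIrrCharacter _ c) (hcusp : IsCusp c)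
    (hirr : DIrr D c) (hopp : DOrth D c (c ∘ F.iota k)) {θ : N → ℂ} (hθ : IsIrrCharacter N θ)
    (h0 : classInner (fun n : N => F.hc c (fun _ _ => 1) n) θ ≠ 0) :
    classInner (fun n : N => F.hc c (fun _ _ => 1) n) θ = 1 := by
  letI := omAct F N k
  have hcf := Core.isIrr_isClassFunction hc
  have e : (fun n : N => F.hc c (fun _ _ => 1) n) = orbSum (lt F N c) := funext fun n => hc_eq_orbSum' F N c n
  rw [e] at h0 ⊢
  refine orbSum_mf (lt F N c) (lt_conj F N hcf) (isIrr_stabFun F hD hc hirr) (fun W W' hW => ?_) hθ h0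
  exact van2_stab F N _ _ (van2_ne hk hN hD hcf hcf hcusp hopp W.2 W'.2 fun h => hW (Subtype.ext h))

/-- `F.hc c 1` is a character of `N` -/
theorem isCharacter_hc [Finite K] [FiniteDimensional K V] [Finite V] {k : ℕ} [Fintype (F.Om k)] (N : Subgroup F.iso)
    {c : GL (Fin k) K → ℂ} (hc : IsCharacter _ c) (hirr : IsIrrCharacter F.iso (F.hc c (fun _ _ => 1))) :
    IsCharacter N (fun n : N => F.hc c (fun _ _ => 1) n) :=
  Core.isCharacter_comp N.subtype (Core.isIrr_isCharacter hirr)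

theorem hasLevi_top (D : Subgroup Kˣ) (k : ℕ) : HasLevi F ⊤ D k :=
  fun _ _ _ _ _ _ _ _ _ _ _ => Subgroup.mem_top _

theorem hasRoots_top : HasRoots F ⊤ := fun _ _ _ _ _ _ _ _ => Subgroup.mem_top _

variable {F} in
theorem HasRoots.mono {N N' : Subgroup F.iso} (h : N ≤ N') (hN : HasRoots F N) : HasRoots F N' :=
  fun x b h1 h2 h3 h4 g hg => h (hN x b h1 h2 h3 h4 g hg)

variable {F} in
theorem HasLevi.mono {N N' : Subgroup F.iso} {D D' : Subgroup Kˣ} {k : ℕ} (h : N ≤ N') (h' : D' ≤ D)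
    (hN : HasLevi F N D k) : HasLevi F N' D' k :=
  fun W hW W' hW' h0 g h1 h2 h3 h4 h5 => h (hN W hW W' hW' h0 g h1 h2 h3 (h' h4) h5)

/-- the action of a root element -/
theorem root_mul {x y b : V} (hxb : F.B x b = 0) (hyb : F.B y b = 0) (hxy : F.B y x = 0) (hb : F.B b b = 0)
    (hbx : F.B b x = 0) {g g' : F.iso} (hg : ∀ v, (g : V ≃ₗ[K] V) v = v + F.B v b • x - (F.ε⁻¹ * F.B v x) • b)
    (hg' : ∀ v, (g' : V ≃ₗ[K] V) v = v + F.B v b • y - (F.ε⁻¹ * F.B v y) • b) (v : V) :
    ((g * g' : F.iso) : V ≃ₗ[K] V) v = v + F.B v b • (x + y) - (F.ε⁻¹ * F.B v (x + y)) • b := by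
  change (g : V ≃ₗ[K] V) ((g' : V ≃ₗ[K] V) v) = _
  rw [hg', hg]
  simp only [F.B_sub_left, F.B_add_left, F.B_smul_left, F.B_add_right, hyb, hb, hxy, hbx, mul_zero, add_zero, sub_zero]
  module

/-- **the roots** -/
theorem hasRoots_of_comm [FiniteDimensional K V] {N : Subgroup F.iso} (hN : commutator F.iso ≤ N)
    (h3 : ∃ t : K, t ≠ 0 ∧ t ≠ 1) : HasRoots F N := by
  classical
  intro x b hx hb hxb ⟨w, hw, hw'⟩ g hg
  obtain ⟨t, ht0, ht1⟩ := h3
  have hbx := F.B_eq_zero hxb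
  by_cases hx0 : x = 0
  · have : g = 1 := by
      apply Subtype.ext
      ext v
      rw [hg, hx0, smul_zero, F.B_zero_right, mul_zero, zero_smul, add_zero, sub_zero]
      rfl
    rw [this]
    exact N.one_mem
  -- `x`, `b` are linearly independent
  have hli : LinearIndependent K ![x, b] := by
    rw [LinearIndependent.pair_iff]
    intro s r hsr
    have h1 : F.B w (s • x + r • b) = 0 := by rw [hsr, F.B_zero_right]
    rw [F.B_add_right, F.B_smul_right, F.B_smul_right, hw, mul_zero, zero_add] at h1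
    have h2 : F.σ r = 0 := (mul_eq_zero.1 h1).resolve_right hw'
    have h4 : r = 0 := by
      have := congrArg F.σ h2
      rwa [F.σσ, map_zero] at this
    rw [h4, zero_smul, add_zero] at hsr
    exact ⟨(smul_eq_zero.1 hsr).resolve_right hx0, h4⟩
  let M : Submodule K V := Submodule.span K (Set.range ![x, b])
  have hM : F.TS M := by
    refine F.TS_span (fun i j => ?_) (fun i => ?_)
    · fin_cases i <;> fin_cases j
      · exact hx.2
      · exact hxb
      · exact hbx
      · exact hb.2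
    · fin_cases i
      · exact hx.1
      · exact hb.1
  let e : Basis (Fin 2) K M := Basis.span hli
  have he0 : ((e 0 : M) : V) = x := by
    rw [Basis.span_apply]; rfl
  have he1 : ((e 1 : M) : V) = b := by
    rw [Basis.span_apply]; rfl
  let a : M ≃ₗ[K] M := e.equiv (e.unitsSMul ![Units.mk0 t ht0, 1]) (Equiv.refl _)
  have ha0 : ((a (e 0) : M) : V) = t • x := by
    rw [Basis.equiv_apply, Equiv.refl_apply, Basis.unitsSMul_apply]
    change ((t • e 0 : M) : V) = _
    rw [Submodule.coe_smul, he0]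
  have ha1 : ((a (e 1) : M) : V) = b := by
    rw [Basis.equiv_apply, Equiv.refl_apply, Basis.unitsSMul_apply]
    change (((1 : Kˣ) • e 1 : M) : V) = _
    rw [one_smul, he1]
  obtain ⟨h, hh⟩ := F.exists_levi' hM a
  have hhx : (h : V ≃ₗ[K] V) x = t • x := by
    have := hh (e 0)
    rwa [he0, ha0] at this
  have hhb : (h : V ≃ₗ[K] V) b = b := by
    have := hh (e 1)
    rwa [he1, ha1] at this
  -- the scaled root element
  have ht1' : t - 1 ≠ 0 := sub_ne_zero.2 ht1
  obtain ⟨y, hy⟩ : ∃ y : V, y = (t - 1)⁻¹ • x := ⟨_, rfl⟩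
  have hys : F.Sing y := ⟨by rw [hy, F.Q_smul, hx.1, mul_zero], by
    rw [hy, F.B_smul_left, F.B_smul_right, hx.2, mul_zero, mul_zero]⟩
  have hyb : F.B y b = 0 := by rw [hy, F.B_smul_left, hxb, mul_zero]
  obtain ⟨r, hr⟩ := F.exists_root hys hb hyb
  -- `h r h⁻¹`
  have hhy : (h : V ≃ₗ[K] V) y = t • y := by
    rw [hy, map_smul, hhx, smul_comm]
  have hcon : ∀ v, ((h * r * h⁻¹ : F.iso) : V ≃ₗ[K] V) v = v + F.B v b • (t • y) - (F.ε⁻¹ * F.B v (t • y)) • b := by
    intro v
    change (h : V ≃ₗ[K] V) ((r : V ≃ₗ[K] V) (((h⁻¹ : F.iso) : V ≃ₗ[K] V) v)) = _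
    have h1 : (h : V ≃ₗ[K] V) (((h⁻¹ : F.iso) : V ≃ₗ[K] V) v) = v := (h : V ≃ₗ[K] V).apply_symm_apply v
    have e1 : F.B (((h⁻¹ : F.iso) : V ≃ₗ[K] V) v) b = F.B v b := by
      conv_rhs => rw [← h1, ← hhb]
      rw [F.iso_B]
    have e2 : F.B (((h⁻¹ : F.iso) : V ≃ₗ[K] V) v) y = F.B v (t • y) := by
      conv_rhs => rw [← h1, ← hhy]
      rw [F.iso_B]
    rw [hr, e1, e2, map_sub, map_add, map_smul, map_smul, h1, hhy, hhb]
  have hrinv : ∀ v, ((r⁻¹ : F.iso) : V ≃ₗ[K] V) v = v + F.B v b • (-y) - (F.ε⁻¹ * F.B v (-y)) • b := by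
    intro v
    apply (r : V ≃ₗ[K] V).injective
    have h1 : (r : V ≃ₗ[K] V) (((r⁻¹ : F.iso) : V ≃ₗ[K] V) v) = v := (r : V ≃ₗ[K] V).apply_symm_apply v
    rw [h1, hr]
    have e3 : F.B b y = 0 := F.B_eq_zero hyb
    simp only [F.B_sub_left, F.B_add_left, F.B_smul_left, F.B_neg_right, F.B_neg_left, smul_neg, mul_neg, neg_smul,
      hyb, hb.2, hys.2, e3, mul_zero, neg_zero, add_zero, sub_zero]
    module
  have hxy0 : F.B (-y) (t • y) = 0 := by
    rw [F.B_neg_left, F.B_smul_right, hys.2, mul_zero, neg_zero]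
  have hprod := root_mul F (x := t • y) (y := -y) (b := b) (by rw [F.B_smul_left, hyb, mul_zero])
    (by rw [F.B_neg_left, hyb, neg_zero]) hxy0 hb.2 (by rw [F.B_smul_right, F.B_eq_zero hyb, mul_zero]) hcon hrinv
  have hfin : g = h * r * h⁻¹ * r⁻¹ := by
    apply Subtype.ext
    ext v
    rw [hg, hprod]
    have e4 : t • y + -y = x := by
      have e5 : t • ((t - 1)⁻¹ • x) + -((t - 1)⁻¹ • x) = ((t - 1) * (t - 1)⁻¹) • x := by module
      rw [hy, e5, mul_inv_cancel₀ ht1', one_smul]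
    rw [e4]
  rw [hfin]
  apply hN
  rw [commutator_eq_closure]
  exact Subgroup.subset_closure ⟨h, r, rfl⟩

end Cfsg.Agent.H576.Ext
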