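import Cfsg.Agent.H576.Ext.Eng
import Cfsg.Agent.LieClassical.SLGen

/-!
# The Levi elements of determinant one are products of root elements (helper576, S4832)
-/

set_option autoImplicit false

open scoped ComplexConjugate
open Cfsg

namespace Cfsg.Agent.H576.Ext

open Cfsg.Agent.H477.HC Cfsg.Agent.H53.HC Cfsg.Agent.Characters Cfsg.Agent.OddOrderCharacters.Clifford Module
  Cfsg.Agent.H477.HC.CForm

universe u v w

variable {K : Type u} [Field K] {V : Type v} [AddCommGroup V] [Module K V] (F : CForm K V)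

/-- the Levi elements are determined by their action on `W` -/
theorem levi_unique [FiniteDimensional K V] {k : ℕ} {W W' : Submodule K V} (hW : W ∈ F.Om k) (hW' : W' ∈ F.Om k)
    (h0 : W ⊓ F.perp W' = ⊥) {g l : F.iso} (hg : g ∈ F.TT W') (hl : l ∈ F.TT W')
    (hgl : ∀ w ∈ W, (g : V ≃ₗ[K] V) w = (l : V ≃ₗ[K] V) w)
    (hg0 : ∀ v, (∀ w ∈ W, F.B v w = 0) → (∀ w ∈ W', F.B v w = 0) → (g : V ≃ₗ[K] V) v = v)
    (hl0 : ∀ v, (∀ w ∈ W, F.B v w = 0) → (∀ w ∈ W', F.B v w = 0) → (l : V ≃ₗ[K] V) v = v) : g = l := by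
  have h0' := opp_symm (F := F) hW.2 hW'.2 h0
  have h1 : ∀ w ∈ W, (∀ w' ∈ W', F.B w w' = 0) → w = 0 := fun w hw hw' => by
    have : w ∈ W ⊓ F.perp W' := ⟨hw, hw'⟩
    rw [h0] at this
    exact (Submodule.mem_bot K).1 this
  have h2 : ∀ w ∈ W', (∀ w' ∈ W, F.B w w' = 0) → w = 0 := fun w hw hw' => by
    have : w ∈ W' ⊓ F.perp W := ⟨hw, hw'⟩
    rw [h0'] at this
    exact (Submodule.mem_bot K).1 this
  obtain ⟨P, hP⟩ := F.exists_proj h1 (fun w hw h => h2 w hw fun w' hw' => F.B_eq_zero (h w' hw'))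
  obtain ⟨P', hP'⟩ := F.exists_proj h2 (fun w hw h => h1 w hw fun w' hw' => F.B_eq_zero (h w' hw'))
  have key : ∀ w' ∈ W', (g : V ≃ₗ[K] V) w' = (l : V ≃ₗ[K] V) w' := by
    intro w' hw'
    have e1 : (g : V ≃ₗ[K] V) w' ∈ W' := by
      rw [← hg.1]; exact ⟨w', hw', rfl⟩
    have e2 : (l : V ≃ₗ[K] V) w' ∈ W' := by
      rw [← hl.1]; exact ⟨w', hw', rfl⟩
    rw [← sub_eq_zero]
    refine h2 _ (W'.sub_mem e1 e2) fun w hw => ?_
    -- write `w = g w₁`? use `l`-images
    have e3 : W.map (F.iso.subtype g : V →ₗ[K] V) = W.map (F.iso.subtype l : V →ₗ[K] V) := by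
      ext x
      constructor
      · rintro ⟨y, hy, rfl⟩
        exact ⟨y, hy, (hgl y hy).symm⟩
      · rintro ⟨y, hy, rfl⟩
        exact ⟨y, hy, hgl y hy⟩
    -- any `w` : decompose `g⁻¹ w`
    have e4 : ∀ y ∈ W, F.B ((g : V ≃ₗ[K] V) w' - (l : V ≃ₗ[K] V) w') ((g : V ≃ₗ[K] V) y) = 0 := by
      intro y hy
      rw [F.B_sub_left, F.iso_B]
      rw [hgl y hy, F.iso_B, sub_self]
    -- `g W` is a complement of `W'ᗮ` too
    have e5 : ∃ z ∈ W, ∀ w'' ∈ W', F.B w w'' = F.B ((g : V ≃ₗ[K] V) z) w'' := by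
      refine ⟨P (((g⁻¹ : F.iso) : V ≃ₗ[K] V) w), (P _).2, fun w'' hw'' => ?_⟩
      have e6 : (g : V ≃ₗ[K] V) (((g⁻¹ : F.iso) : V ≃ₗ[K] V) w) = w := (g : V ≃ₗ[K] V).apply_symm_apply w
      obtain ⟨u, hu, hu'⟩ : ∃ u ∈ W', (g : V ≃ₗ[K] V) u = w'' := by
        rw [← hg.1] at hw''
        exact hw''
      have e9 : F.B w ((g : V ≃ₗ[K] V) u) = F.B (((g⁻¹ : F.iso) : V ≃ₗ[K] V) w) u := by
        conv_lhs => rw [← e6]
        rw [F.iso_B]
      rw [← hu', F.iso_B, ← hP _ u hu, e9]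
    obtain ⟨z, hz, hz'⟩ := e5
    have e7 := F.B_eq_zero (e4 z hz)
    rw [← hz' _ (W'.sub_mem e1 e2)] at e7
    exact F.B_eq_zero e7
  apply Subtype.ext
  ext v
  have e8 : v = (v - P v - P' v) + (P v + P' v) := by abel
  have c1 : ∀ w ∈ W, F.B (v - P v - P' v) w = 0 := by
    intro w hw
    rw [F.B_sub_left, F.B_sub_left, hW.1.2 _ (P v).2 w hw, hP' v w hw]
    ring
  have c2 : ∀ w ∈ W', F.B (v - P v - P' v) w = 0 := by
    intro w hw
    rw [F.B_sub_left, F.B_sub_left, hW'.1.2 _ (P' v).2 w hw, hP v w hw]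
    ring
  rw [e8, map_add, map_add, map_add, map_add, hg0 _ c1 c2, hl0 _ c1 c2, hgl _ (P v).2, key _ (P' v).2]

/-- the root element inducing a transvection -/
theorem exists_root_opp [FiniteDimensional K V] {k : ℕ} {N : Subgroup F.iso} (hN : HasRoots F N) {W W' : Submodule K V}
    (hW : W ∈ F.Om k) (hW' : W' ∈ F.Om k) (b : Basis (Fin k) K W) (b' : Basis (Fin k) K W')
    (hb : ∀ i j, F.B (b i) (b' j) = if i = j then 1 else 0) {i j : Fin k} (hij : i ≠ j) (c : K) :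
    ∃ g ∈ leviD F N ⊤ W W', ∀ w : W, (g : V ≃ₗ[K] V) w = w + (c * b.repr w j) • (b i : V) := by
  classical
  by_cases hc : c = 0
  · refine ⟨1, (leviD F N ⊤ W W').one_mem, fun w => ?_⟩
    rw [hc, zero_mul, zero_smul, add_zero]
    rfl
  have hz : F.Sing (F.σ c • (b' j : V)) := hW'.1.sing (W'.smul_mem _ (b' j).2)
  have hzW : F.σ c • (b' j : V) ∈ W' := W'.smul_mem _ (b' j).2
  have hx : F.Sing (b i : V) := hW.1.sing (b i).2
  have hxz : F.B (b i) (F.σ c • (b' j : V)) = 0 := by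
    rw [F.B_smul_right, hb, if_neg hij, mul_zero]
  have hval : ∀ w : W, F.B w (F.σ c • (b' j : V)) = c * b.repr w j := by
    intro w
    rw [F.B_smul_right, F.σσ]
    congr 1
    have h1 : (w : V) = ∑ m, b.repr w m • (b m : V) := by
      conv_lhs => rw [← b.sum_repr w, Submodule.coe_sum]
      rfl
    rw [h1, F.B_sum_left, Finset.sum_eq_single j]
    · rw [hb, if_pos rfl, mul_one]
    · intro m _ hm
      rw [hb, if_neg hm, mul_zero]
    · intro h; exact absurd (Finset.mem_univ _) h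
  obtain ⟨g, hg⟩ := F.exists_root hx hz hxz
  have hTT : g ∈ F.TT W := F.mem_TT_of hW.1 fun v hv => by
    rw [hg, hv _ (b i).2]
    have : v + F.B v (F.σ c • (b' j : V)) • (b i : V) - (F.ε⁻¹ * 0) • (F.σ c • (b' j : V)) - v =
        F.B v (F.σ c • (b' j : V)) • (b i : V) := by module
    rw [this]
    exact W.smul_mem _ (b i).2
  have hTT' : g ∈ F.TT W' := F.mem_TT_of hW'.1 fun v hv => by
    rw [hg, hv _ hzW]
    have : v + (0 : K) • (b i : V) - (F.ε⁻¹ * F.B v (b i)) • (F.σ c • (b' j : V)) - v =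
        (-(F.ε⁻¹ * F.B v (b i))) • (F.σ c • (b' j : V)) := by module
    rw [this]
    exact W'.smul_mem _ hzW
  refine ⟨g, ⟨?_, hTT', fun v hv hv' => ?_, hTT, Subgroup.mem_top _⟩, fun w => ?_⟩
  · refine hN _ _ hx hz hxz ⟨b j, hW.1.2 _ (b j).2 _ (b i).2, ?_⟩ g hg
    rw [hval, Basis.repr_self, Finsupp.single_eq_same, mul_one]
    exact hc
  · rw [hg, hv' _ hzW, hv _ (b i).2]
    module
  · rw [hg, hval, hW.1.2 w w.2 _ (b i).2]
    module

/-- **the Levi elements of determinant one** -/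
theorem hasLevi_bot [FiniteDimensional K V] {N : Subgroup F.iso} (hN : HasRoots F N) (k : ℕ) : HasLevi F N ⊥ k := by
  classical
  intro W hW W' hW' h0 g hg hg' hgW hdet htriv
  obtain ⟨b, b', hb⟩ := exists_dual_basis (F := F) hW.2 hW'.2 h0
  have hst : ∀ l : leviD F N ⊤ W W', W.map (F.iso.subtype l : V →ₗ[K] V) = W := fun l => by
    obtain ⟨-, -, -, h, -⟩ := l.2
    exact h.1
  let f : leviD F N ⊤ W W' →* GL (Fin k) K :=
    (glE b).toMonoidHom.comp ((resHom F.iso.subtype W).comp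
      { toFun := fun l => ⟨l, hst l⟩
        map_one' := rfl
        map_mul' := fun _ _ => rfl })
  have hf : ∀ l : leviD F N ⊤ W W', f l = glE b (res (F.iso.subtype l) W (hst l)) := fun l => rfl
  have hR : f.range.comap (Matrix.SpecialLinearGroup.toGL : Matrix.SpecialLinearGroup (Fin k) K →* GL (Fin k) K) = ⊤ := by
    rw [eq_top_iff, ← Cfsg.Agent.LieClassical.SLGen.closure_transvections, Subgroup.closure_le]
    rintro A ⟨i, j, hij, c, rfl⟩
    obtain ⟨l, hl, hlv⟩ := exists_root_opp F hN hW hW' b b' hb hij c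
    refine ⟨⟨l, hl⟩, ?_⟩
    rw [hf]
    ext m n
    rw [coe_glE, LinearMap.toMatrix_apply]
    have e1 : (res (F.iso.subtype l) W (hst ⟨l, hl⟩) : W →ₗ[K] W) (b n) = b n + (c * b.repr (b n) j) • b i := by
      apply Subtype.ext
      exact hlv (b n)
    rw [e1, map_add, Finsupp.add_apply, map_smul, Finsupp.smul_apply, Basis.repr_self, Basis.repr_self, smul_eq_mul]
    change _ = ((1 : Matrix (Fin k) (Fin k) K) + Matrix.single i j c) m n
    rw [Matrix.add_apply, Matrix.one_apply, Matrix.single_apply, Finsupp.single_apply, Finsupp.single_apply,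
      Finsupp.single_apply]
    congr 1
    · by_cases h1 : n = m
      · rw [if_pos h1, if_pos h1.symm]
      · rw [if_neg h1, if_neg (Ne.symm h1)]
    · by_cases h2 : n = j
      · by_cases h3 : i = m
        · rw [if_pos h2, if_pos h3, if_pos ⟨h3, h2.symm⟩, mul_one, mul_one]
        · rw [if_neg h3, mul_zero, if_neg (fun h => h3 h.1)]
      · rw [if_neg h2, mul_zero, zero_mul, if_neg (fun h => h2 h.2.symm)]
  have hd : Matrix.GeneralLinearGroup.det (glE b (res (F.iso.subtype g) W hgW)) = 1 := by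
    rw [det_glE]
    exact (Subgroup.mem_bot).1 hdet
  let A : Matrix.SpecialLinearGroup (Fin k) K := ⟨(glE b (res (F.iso.subtype g) W hgW) : GL (Fin k) K), by
    exact congrArg Units.val hd⟩
  have hA : (Matrix.SpecialLinearGroup.toGL A : GL (Fin k) K) = glE b (res (F.iso.subtype g) W hgW) := by
    apply Units.ext
    rfl
  have hAR : A ∈ f.range.comap (Matrix.SpecialLinearGroup.toGL : Matrix.SpecialLinearGroup (Fin k) K →* GL (Fin k) K) := by
    rw [hR]; trivial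
  obtain ⟨l, hl⟩ := hAR
  have hl' : glE b (res (F.iso.subtype l) W (hst l)) = glE b (res (F.iso.subtype g) W hgW) := by
    rw [← hf, ← hA]
    exact hl
  have hl2 := (glE b).injective hl'
  have hgl : g = l := by
    refine levi_unique F hW hW' h0 hg' l.2.2.1 (fun w hw => ?_) htriv l.2.2.2.1
    have := congrArg (fun e : W ≃ₗ[K] W => ((e ⟨w, hw⟩ : W) : V)) hl2
    exact this.symm
  rw [hgl]
  exact l.2.1

end Cfsg.Agent.H576.Ext
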