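import Cfsg.Agent.H53.HC.Orbit

/-!
# Sums over fixed points: orthogonality and multiplicity one (helper576, S4832)

* `inner_term_zero` : the inner product of two local terms vanishes if they are orthogonal on some subgroup;
* `orbSum_orth` : two-parameter orthogonality of `orbSum φ`, `orbSum φ'`;
* `orbSum_mf` : `orbSum φ` is multiplicity free if the local terms are irreducible and pairwise orthogonal.
-/

set_option autoImplicit false

open scoped ComplexConjugate
open Cfsg

namespace Cfsg.Agent.H576.Ext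

open Cfsg.Agent.OddOrderCharacters.Clifford Cfsg.Agent.Characters MulAction Cfsg.Agent.H53.HC

universe u v

variable {G : Type u} [Group G] {Ω : Type v} [MulAction G Ω]

open Classical in
theorem inner_term_zero [Fintype G] (φ φ' : G → Ω → ℂ) (ω ω' : Ω)
    (hc : IsCharacter (stabilizer G ω) (stabFun φ ω)) (hc' : IsCharacter (stabilizer G ω') (stabFun φ' ω'))
    (h : ∃ L : Subgroup G, L ≤ stabilizer G ω ∧ L ≤ stabilizer G ω' ∧
      ∀ [Fintype L], ∑ l : L, φ l ω * conj (φ' l ω') = 0) :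
    ∑ g : G, (if g • ω = ω then φ g ω else 0) * conj (if g • ω' = ω' then φ' g ω' else 0) = 0 := by
  obtain ⟨L, hL, hL', h0⟩ := h
  let M : Subgroup G := stabilizer G ω ⊓ stabilizer G ω'
  let _ : Fintype M := Fintype.ofFinite _
  let _ : Fintype L := Fintype.ofFinite _
  rw [sum_eq_sum_subgroup M]
  swap
  · intro g hg
    by_cases h1 : g • ω = ω
    · have h2 : ¬ g • ω' = ω' := fun h2 => hg ⟨mem_stabilizer_iff.2 h1, mem_stabilizer_iff.2 h2⟩
      rw [if_neg h2, map_zero, mul_zero]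
    · rw [if_neg h1, zero_mul]
  let α : M → ℂ := stabFun φ ω ∘ (Subgroup.inclusion (inf_le_left : M ≤ stabilizer G ω))
  let β : M → ℂ := stabFun φ' ω' ∘ (Subgroup.inclusion (inf_le_right : M ≤ stabilizer G ω'))
  have hα : IsCharacter M α := Core.isCharacter_comp _ hc
  have hβ : IsCharacter M β := Core.isCharacter_comp _ hc'
  have key : classInner α β = 0 := by
    refine classInner_eq_zero_of_comp (Subgroup.inclusion (le_inf hL hL' : L ≤ M)) hα hβ ?_
    rw [Core.classInner_def]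
    have : ∑ g : L, (α ∘ (Subgroup.inclusion (le_inf hL hL' : L ≤ M))) g *
        conj ((β ∘ (Subgroup.inclusion (le_inf hL hL' : L ≤ M))) g) = 0 := h0
    rw [this, mul_zero]
  rw [Core.classInner_def] at key
  have h3 := (mul_eq_zero.1 key).resolve_left (inv_ne_zero Core.card_ne_zero_complex)
  rw [← h3]
  refine Finset.sum_congr rfl fun m _ => ?_
  rw [if_pos (mem_stabilizer_iff.1 m.2.1), if_pos (mem_stabilizer_iff.1 m.2.2)]
  rfl

/-- **two-parameter orthogonality** -/
theorem orbSum_orth [Fintype G] [Fintype Ω] (φ φ' : G → Ω → ℂ)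
    (hc : ∀ ω, IsCharacter (stabilizer G ω) (stabFun φ ω)) (hc' : ∀ ω, IsCharacter (stabilizer G ω) (stabFun φ' ω))
    (h : ∀ ω ω' : Ω, ∃ L : Subgroup G, L ≤ stabilizer G ω ∧ L ≤ stabilizer G ω' ∧
      ∀ [Fintype L], ∑ l : L, φ l ω * conj (φ' l ω') = 0) :
    ∑ g : G, orbSum φ g * conj (orbSum φ' g) = 0 := by
  classical
  unfold orbSum
  have e1 : ∀ g : G, (∑ ω : Ω, if g • ω = ω then φ g ω else 0) * conj (∑ ω : Ω, if g • ω = ω then φ' g ω else 0) =
      ∑ ω : Ω, ∑ ω' : Ω, (if g • ω = ω then φ g ω else 0) * conj (if g • ω' = ω' then φ' g ω' else 0) := by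
    intro g
    rw [map_sum, Finset.sum_mul_sum]
  rw [Finset.sum_congr rfl fun g _ => e1 g, Finset.sum_comm]
  refine Finset.sum_eq_zero fun ω _ => ?_
  rw [Finset.sum_comm]
  refine Finset.sum_eq_zero fun ω' _ => ?_
  exact inner_term_zero φ φ' ω ω' (hc ω) (hc' ω') (h ω ω')

theorem orbSum_sigma [Fintype Ω] (φ : G → Ω → ℂ) [Fintype (orbitRel.Quotient G Ω)]
    [∀ X : orbitRel.Quotient G Ω, Fintype X.orbit] :
    orbSum φ = ∑ X : orbitRel.Quotient G Ω, orbSum (fun g (ω : X.orbit) => φ g ω) := by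
  classical
  ext g
  rw [Finset.sum_apply]
  unfold orbSum
  have h2 : ∑ ω : Ω, (if g • ω = ω then φ g ω else 0) =
      ∑ x : ((X : orbitRel.Quotient G Ω) × X.orbit), (if g • (x.2 : Ω) = x.2 then φ g x.2 else 0) :=
    (Fintype.sum_equiv (selfEquivSigmaOrbits' G Ω).symm _ _ (fun x => rfl)).symm
  rw [h2, Fintype.sum_sigma]
  refine Finset.sum_congr rfl fun X _ => Finset.sum_congr rfl fun ω _ => ?_
  congr 1
  rw [Subtype.ext_iff]
  rfl

/-- **multiplicity one** -/
theorem orbSum_mf [Fintype G] [Fintype Ω] (φ : G → Ω → ℂ)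
    (hφ : ∀ (x g : G) (ω : Ω), φ (x * g * x⁻¹) (x • ω) = φ g ω)
    (hirr : ∀ ω, IsIrrCharacter (stabilizer G ω) (stabFun φ ω))
    (h : ∀ ω ω' : Ω, ω' ≠ ω → ∃ L : Subgroup G, L ≤ stabilizer G ω ∧ L ≤ stabilizer G ω' ∧
      ∀ [Fintype L], ∑ l : L, φ l ω * conj (φ l ω') = 0) {θ : G → ℂ} (hθ : IsIrrCharacter G θ)
    (h0 : classInner (orbSum φ) θ ≠ 0) : classInner (orbSum φ) θ = 1 := by
  classical
  have hfin : Finite (orbitRel.Quotient G Ω) := Quotient.finite _
  let _ : Fintype (orbitRel.Quotient G Ω) := Fintype.ofFinite _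
  let _ : ∀ X : orbitRel.Quotient G Ω, Fintype X.orbit := fun X => Fintype.ofFinite _
  have hst : ∀ (X : orbitRel.Quotient G Ω) (ω : X.orbit) (g : G), g ∈ stabilizer G ω ↔ g ∈ stabilizer G (ω : Ω) := by
    intro X ω g
    rw [mem_stabilizer_iff, mem_stabilizer_iff, Subtype.ext_iff]
    rfl
  -- each part is irreducible
  have hpart : ∀ X : orbitRel.Quotient G Ω, IsIrrCharacter G (orbSum (fun g (ω : X.orbit) => φ g ω)) := by
    intro X
    have : IsPretransitive G X.orbit := by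
      refine ⟨fun a b => ?_⟩
      have ha : (Quotient.mk'' (a : Ω) : orbitRel.Quotient G Ω) = X := orbitRel.Quotient.mem_orbit.1 a.2
      have hb : (Quotient.mk'' (b : Ω) : orbitRel.Quotient G Ω) = X := orbitRel.Quotient.mem_orbit.1 b.2
      have h1 : (b : Ω) ∈ orbit G (a : Ω) := by
        rw [← orbitRel_apply]
        exact Quotient.exact (hb.trans ha.symm)
      obtain ⟨g, hg⟩ := h1
      exact ⟨g, Subtype.ext hg⟩
    obtain ⟨ω₀, hω₀⟩ : X.orbit.Nonempty := orbitRel.Quotient.nonempty_orbit X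
    refine isIrr_orbSum (fun g (ω : X.orbit) => φ g ω) (fun x g ω => hφ x g ω) ⟨ω₀, hω₀⟩ ?_ ?_
    · let f : stabilizer G (⟨ω₀, hω₀⟩ : X.orbit) →* stabilizer G ω₀ :=
        { toFun := fun g => ⟨g, (hst X _ _).1 g.2⟩
          map_one' := rfl
          map_mul' := fun _ _ => rfl }
      have hf : Function.Surjective f := fun g => ⟨⟨g, (hst X _ _).2 g.2⟩, rfl⟩
      exact Core.isIrr_comp f hf (hirr ω₀)
    · intro ω hω
      obtain ⟨L, h1, h2, h3⟩ := h ω₀ ω (fun e => hω (Subtype.ext e))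
      exact ⟨L, fun l hl => (hst X _ _).2 (h1 hl), fun l hl => (hst X _ _).2 (h2 hl), fun {_} => h3⟩
  -- different parts are orthogonal
  have horth : ∀ X Y : orbitRel.Quotient G Ω, X ≠ Y →
      classInner (orbSum (fun g (ω : X.orbit) => φ g ω)) (orbSum (fun g (ω : Y.orbit) => φ g ω)) = 0 := by
    intro X Y hXY
    rw [Core.classInner_def]
    have e1 : ∀ g : G, orbSum (fun g (ω : X.orbit) => φ g ω) g * conj (orbSum (fun g (ω : Y.orbit) => φ g ω) g) =
        ∑ ω : X.orbit, ∑ ω' : Y.orbit, (if g • (ω : Ω) = ω then φ g ω else 0) *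
          conj (if g • (ω' : Ω) = ω' then φ g ω' else 0) := by
      intro g
      unfold orbSum
      rw [map_sum, Finset.sum_mul_sum]
      refine Finset.sum_congr rfl fun ω _ => Finset.sum_congr rfl fun ω' _ => ?_
      simp only [Subtype.ext_iff, orbitRel.Quotient.orbit.coe_smul]
    rw [Finset.sum_congr rfl fun g _ => e1 g, Finset.sum_comm]
    rw [Finset.sum_eq_zero, mul_zero]
    intro ω _
    rw [Finset.sum_comm]
    refine Finset.sum_eq_zero fun ω' _ => ?_
    refine inner_term_zero φ φ ω ω' (Core.isIrr_isCharacter (hirr _)) (Core.isIrr_isCharacter (hirr _))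
      (h ω ω' fun e => hXY ?_)
    have ha : (Quotient.mk'' (ω : Ω) : orbitRel.Quotient G Ω) = X := orbitRel.Quotient.mem_orbit.1 ω.2
    have hb : (Quotient.mk'' (ω' : Ω) : orbitRel.Quotient G Ω) = Y := orbitRel.Quotient.mem_orbit.1 ω'.2
    rw [← ha, ← hb, e]
  rw [orbSum_sigma φ, Core.classInner_sum_left] at h0 ⊢
  obtain ⟨X₀, -, hX₀⟩ := Finset.exists_ne_zero_of_sum_ne_zero h0
  have he : orbSum (fun g (ω : X₀.orbit) => φ g ω) = θ := by
    by_contra hne
    exact hX₀ (Core.classInner_irr_ne (hpart X₀) hθ hne)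
  rw [Finset.sum_eq_single X₀]
  · rw [he]
    exact Core.classInner_irr_self hθ
  · intro X _ hX
    rw [← he]
    exact horth X X₀ hX
  · intro h1
    exact absurd (Finset.mem_univ _) h1

end Cfsg.Agent.H576.Ext
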