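import Cfsg.Agent.H576.Ext.HcDefs
import Cfsg.Agent.H576.Ext.OrbMF

/-!
# Two-parameter orthogonality of Harish-Chandra induced characters: the local terms (helper576, S4832)

`Van2 F N c c' W W'` : the local terms of `c` at `W` and of `c'` at `W'` are orthogonal on a subgroup of `N`.
`van2` : it holds for all `W`, `W'` if `N` contains the root elements and the Levi elements of determinant in `D`, `c`,
`c'` are orthogonal on `DL D k` and `c`, `c' ∘ ι` as well.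
-/

set_option autoImplicit false

open scoped ComplexConjugate
open Cfsg

namespace Cfsg.Agent.H576.Ext

open Cfsg.Agent.H477.HC Cfsg.Agent.H53.HC Cfsg.Agent.Characters Cfsg.Agent.OddOrderCharacters.Clifford Module
  Cfsg.Agent.H477.HC.CForm

universe u v w

variable {K : Type u} [Field K] {V : Type v} [AddCommGroup V] [Module K V] (F : CForm K V)

/-- the vanishing condition at a pair of subspaces -/
def Van2 {k : ℕ} (N : Subgroup F.iso) (c c' : GL (Fin k) K → ℂ) (W₀ W' : Submodule K V) : Prop :=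
  ∃ L : Subgroup F.iso, L ≤ N ∧ L ≤ stabW F.iso.subtype W₀ ∧ L ≤ stabW F.iso.subtype W' ∧
    ∀ [Fintype L], ∑ l : L, flagTerm F.iso.subtype c l W₀ * conj (flagTerm F.iso.subtype c' l W') = 0

variable {F}

theorem van2_of_root [FiniteDimensional K V] [Finite V] {k : ℕ} {N : Subgroup F.iso} {c c' : GL (Fin k) K → ℂ}
    (hcf : IsClassFunction _ c) (hcf' : IsClassFunction _ c')
    (hcusp : IsCusp c) {W₀ W' : Submodule K V} (hW₀ : finrank K W₀ = k)
    (hW' : finrank K W' = k) (D : Submodule K V) (hD : D ≤ W₀) (hD0 : D ≠ ⊥) (hD1 : D ≠ W₀)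
    (hgen : ∀ c ∈ D, ∀ f : W₀ →ₗ[K] K, (∀ w : W₀, (w : V) ∈ D → f w = 0) →
      ∃ g ∈ N, (∀ w' ∈ W', (g : V ≃ₗ[K] V) w' = w') ∧ ∀ w : W₀, (g : V ≃ₗ[K] V) w = w + f w • c) :
    Van2 F N c c' W₀ W' := by
  classical
  have b₀ : Basis (Fin k) K W₀ := finBasisOfFinrankEq K W₀ hW₀
  have b₁ : Basis (Fin k) K W' := finBasisOfFinrankEq K W' hW'
  let D₀ : Submodule K W₀ := D.comap W₀.subtype
  have hD₀0 : D₀ ≠ ⊥ := by
    intro h
    apply hD0
    rw [Submodule.eq_bot_iff] at h ⊢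
    intro x hx
    have := h ⟨x, hD hx⟩ hx
    exact congrArg Subtype.val this
  have hD₀1 : D₀ ≠ ⊤ := by
    intro h
    apply hD1
    apply le_antisymm hD
    intro x hx
    have : (⟨x, hx⟩ : W₀) ∈ D₀ := by rw [h]; trivial
    exact this
  let L : Subgroup F.iso :=
    { carrier := {g | g ∈ N ∧ (∀ w' ∈ W', (g : V ≃ₗ[K] V) w' = w') ∧ (∀ w ∈ W₀, (g : V ≃ₗ[K] V) w - w ∈ D) ∧
        ∀ d ∈ D, (g : V ≃ₗ[K] V) d = d}
      one_mem' := ⟨N.one_mem, fun _ _ => rfl, fun w _ => by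
        change w - w ∈ D
        rw [sub_self]; exact D.zero_mem, fun _ _ => rfl⟩
      mul_mem' := by
        rintro x y ⟨hx0, hx1, hx2, hx3⟩ ⟨hy0, hy1, hy2, hy3⟩
        refine ⟨N.mul_mem hx0 hy0, fun w' hw' => ?_, fun w hw => ?_, fun d hd => ?_⟩
        · rw [Subgroup.coe_mul, LinearEquiv.mul_apply, hy1 w' hw', hx1 w' hw']
        · have h1 : (y : V ≃ₗ[K] V) w ∈ W₀ := by
            have := W₀.add_mem (hD (hy2 w hw)) hw
            rwa [sub_add_cancel] at this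
          have : ((x * y : F.iso) : V ≃ₗ[K] V) w - w =
              ((x : V ≃ₗ[K] V) ((y : V ≃ₗ[K] V) w) - (y : V ≃ₗ[K] V) w) + ((y : V ≃ₗ[K] V) w - w) := by
            rw [Subgroup.coe_mul, LinearEquiv.mul_apply]; abel
          rw [this]
          exact D.add_mem (hx2 _ h1) (hy2 w hw)
        · rw [Subgroup.coe_mul, LinearEquiv.mul_apply, hy3 d hd, hx3 d hd]
      inv_mem' := by
        rintro x ⟨hx0, hx1, hx2, hx3⟩
        have key : ∀ v, (x : V ≃ₗ[K] V) v = v → ((x⁻¹ : F.iso) : V ≃ₗ[K] V) v = v := by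
          intro v hv
          have h1 : ((x⁻¹ : F.iso) : V ≃ₗ[K] V) ((x : V ≃ₗ[K] V) v) = v := (x : V ≃ₗ[K] V).symm_apply_apply v
          rwa [hv] at h1
        refine ⟨N.inv_mem hx0, fun w' hw' => key _ (hx1 w' hw'), fun w hw => ?_, fun d hd => key _ (hx3 d hd)⟩
        have h1 := hx2 w hw
        have h2 := key _ (hx3 _ h1)
        rw [map_sub] at h2
        have h3 : ((x⁻¹ : F.iso) : V ≃ₗ[K] V) ((x : V ≃ₗ[K] V) w) = w := (x : V ≃ₗ[K] V).symm_apply_apply w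
        rw [h3] at h2
        have h4 : ((x⁻¹ : F.iso) : V ≃ₗ[K] V) w - w = -((x : V ≃ₗ[K] V) w - w) := by rw [← h2]; abel
        rw [h4]
        exact D.neg_mem h1 }
  have hL0 : ∀ l ∈ L, W₀.map (F.iso.subtype l : V →ₗ[K] V) = W₀ := fun l hl => map_eq_of_le F.iso.subtype fun w hw => by
    have := W₀.add_mem (hD (hl.2.2.1 w hw)) hw
    rwa [sub_add_cancel] at this
  have hL1 : ∀ l ∈ L, W'.map (F.iso.subtype l : V →ₗ[K] V) = W' := fun l hl => map_eq_of_le F.iso.subtype fun w hw => by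
    have := hl.2.1 w hw
    change (l : V ≃ₗ[K] V) w ∈ W'
    rw [this]; exact hw
  refine ⟨L, fun l hl => hl.1, fun l hl => hL0 l hl, fun l hl => hL1 l hl, fun {_} => ?_⟩
  have hfinW : Finite (W₀ ≃ₗ[K] W₀) :=
    Finite.of_injective (fun e : W₀ ≃ₗ[K] W₀ => (e : W₀ → W₀)) DFunLike.coe_injective
  let _ : Fintype (radU D₀) := Fintype.ofFinite _
  let f : L →* radU D₀ :=
    { toFun := fun l => ⟨res (F.iso.subtype l) W₀ (hL0 l l.2), fun w => l.2.2.2.1 w w.2, fun d hd => by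
          apply Subtype.ext
          exact l.2.2.2.2 d hd⟩
      map_one' := by
        apply Subtype.ext
        ext w
        rfl
      map_mul' := fun x y => by
        apply Subtype.ext
        ext w
        rfl }
  have hf : Function.Surjective f := by
    have h1 := mem_of_transv D₀ (f.range.map (radU D₀).subtype) (by
      intro c hc f' hf'
      obtain ⟨g, hgS, hg1, hg2⟩ := hgen c hc f' (fun w hw => hf' w hw)
      have hgL : g ∈ L := by
        refine ⟨hgS, hg1, fun w hw => ?_, fun d hd => ?_⟩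
        · rw [hg2 ⟨w, hw⟩, add_sub_cancel_left]
          exact D.smul_mem _ hc
        · rw [hg2 ⟨d, hD hd⟩, hf' _ hd, zero_smul, add_zero]
      refine ⟨_, ⟨f ⟨g, hgL⟩, ⟨⟨g, hgL⟩, rfl⟩, rfl⟩, fun w => ?_⟩
      apply Subtype.ext
      exact hg2 w)
    rintro ⟨u, hu⟩
    obtain ⟨_, ⟨l, rfl⟩, h2⟩ := h1 hu
    exact ⟨l, Subtype.ext h2⟩
  have e1 : ∀ l : L, flagTerm F.iso.subtype c l W₀ * conj (flagTerm F.iso.subtype c' l W') =
      (fun u : radU D₀ => cl c (u : W₀ ≃ₗ[K] W₀) * conj (c' 1)) (f l) := by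
    intro l
    rw [flagTerm_of F.iso.subtype c (hL0 l l.2), flagTerm_of F.iso.subtype c' (hL1 l l.2)]
    have e2 : res (F.iso.subtype (l : F.iso)) W' (hL1 l l.2) = 1 := by
      ext w
      exact l.2.2.1 w w.2
    rw [e2, cl_one hcf' b₁]
    rfl
  rw [Finset.sum_congr rfl fun l _ => e1 l,
    sum_comp_hom f hf (fun u : radU D₀ => cl c (u : W₀ ≃ₗ[K] W₀) * conj (c' 1)), ← Finset.sum_mul,
    hcusp.sum_eq hcf b₀ D₀ hD₀0 hD₀1, zero_mul, mul_zero]

/-- case `0 < W₀ ∩ W'ᗮ < W₀` -/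
theorem van2_case1 [FiniteDimensional K V] [Finite V] {k : ℕ} {N : Subgroup F.iso} (hN : HasRoots F N)
    {c c' : GL (Fin k) K → ℂ} (hcf : IsClassFunction _ c) (hcf' : IsClassFunction _ c')
    (hcusp : IsCusp c) {W₀ W' : Submodule K V} (hW₀ : W₀ ∈ F.Om k) (hW' : W' ∈ F.Om k) (h0 : W₀ ⊓ F.perp W' ≠ ⊥)
    (h1 : W₀ ⊓ F.perp W' ≠ W₀) : Van2 F N c c' W₀ W' := by
  refine van2_of_root hcf hcf' hcusp hW₀.2 hW'.2 (W₀ ⊓ F.perp W') inf_le_left h0 h1 fun x hx f hf => ?_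
  by_cases hf0 : ∀ w, f w = 0
  · refine ⟨1, N.one_mem, fun _ _ => rfl, fun w => ?_⟩
    rw [hf0 w, zero_smul, add_zero]
    rfl
  push Not at hf0
  obtain ⟨w₀, hw₀⟩ := hf0
  obtain ⟨b, hb, hb'⟩ := F.exists_pair W₀ W' f (fun w hw => hf w ⟨w.2, fun w' hw' => hw w' hw'⟩)
  obtain ⟨g, hg⟩ := F.exists_root (hW₀.1.sing hx.1) (hW'.1.sing hb) (hx.2 b hb)
  refine ⟨g, hN x b (hW₀.1.sing hx.1) (hW'.1.sing hb) (hx.2 b hb) ⟨w₀, hW₀.1.2 w₀ w₀.2 x hx.1, by rw [← hb']; exact hw₀⟩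
    g hg, fun w' hw' => ?_, fun w => ?_⟩
  · rw [hg, hW'.1.2 w' hw' b hb, F.B_eq_zero (hx.2 w' hw')]
    module
  · rw [hg, hb', hW₀.1.2 w w.2 x hx.1]
    module

/-- the root elements of the orthogonal cases -/
theorem exists_root_perp2 [FiniteDimensional K V] {N : Subgroup F.iso} (hN : HasRoots F N) {W₀ W' : Submodule K V}
    (hW₀ : F.TS W₀) (hperp : W₀ ≤ F.perp W') {x : V} (hx : x ∈ W₀) (f : W₀ →ₗ[K] K)
    (hf : ∀ w : W₀, (w : V) ∈ W' → f w = 0) (hfx : f ⟨x, hx⟩ = 0) :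
    ∃ g ∈ N, (∀ w' ∈ W', (g : V ≃ₗ[K] V) w' = w') ∧ ∀ w : W₀, (g : V ≃ₗ[K] V) w = w + f w • x := by
  by_cases hf0 : f = 0
  · refine ⟨1, N.one_mem, fun _ _ => rfl, fun w => ?_⟩
    rw [hf0, LinearMap.zero_apply, zero_smul, add_zero]
    rfl
  obtain ⟨b, hb, hb1, hb2⟩ := exists_sing_dual hW₀ hperp f hf hf0
  have hxb : F.B x b = 0 := by rw [← hfx, hb1]
  obtain ⟨g, hg⟩ := F.exists_root (hW₀.sing hx) hb hxb
  obtain ⟨w₀, hw₀⟩ : ∃ w, f w ≠ 0 := by
    by_contra h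
    push Not at h
    exact hf0 (LinearMap.ext h)
  refine ⟨g, hN x b (hW₀.sing hx) hb hxb ⟨w₀, hW₀.2 w₀ w₀.2 x hx, by rw [← hb1]; exact hw₀⟩ g hg,
    fun w' hw' => ?_, fun w => ?_⟩
  · rw [hg, hb2 w' hw', F.B_eq_zero (hperp hx w' hw')]
    module
  · rw [hg, hb1, hW₀.2 w w.2 x hx]
    module

/-- case `W₀ ⟂ W'`, `W₀ ∩ W' ≠ 0` -/
theorem van2_case2 [FiniteDimensional K V] [Finite V] {k : ℕ} {N : Subgroup F.iso} (hN : HasRoots F N)
    {c c' : GL (Fin k) K → ℂ} (hcf : IsClassFunction _ c) (hcf' : IsClassFunction _ c')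
    (hcusp : IsCusp c) {W₀ W' : Submodule K V} (hW₀ : W₀ ∈ F.Om k) (hW' : W' ∈ F.Om k) (hperp : W₀ ≤ F.perp W')
    (h0 : W₀ ⊓ W' ≠ ⊥) (h1 : W' ≠ W₀) : Van2 F N c c' W₀ W' := by
  refine van2_of_root hcf hcf' hcusp hW₀.2 hW'.2 (W₀ ⊓ W') inf_le_left h0 (fun h => h1 ?_) fun x hx f hf => ?_
  · symm
    apply Submodule.eq_of_le_of_finrank_eq
    · rw [← h]; exact inf_le_right
    · rw [hW₀.2, hW'.2]
  exact exists_root_perp2 hN hW₀.1 hperp hx.1 f (fun w hw => hf w ⟨w.2, hw⟩) (hf ⟨x, hx.1⟩ hx)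

/-- case `W₀ ⟂ W'`, `W₀ ∩ W' = 0`, `k ≥ 2` -/
theorem van2_case3 [FiniteDimensional K V] [Finite V] {k : ℕ} (hk : 2 ≤ k) {N : Subgroup F.iso} (hN : HasRoots F N)
    {c c' : GL (Fin k) K → ℂ} (hcf : IsClassFunction _ c) (hcf' : IsClassFunction _ c')
    (hcusp : IsCusp c) {W₀ W' : Submodule K V} (hW₀ : W₀ ∈ F.Om k) (hW' : W' ∈ F.Om k) (hperp : W₀ ≤ F.perp W')
    (h0 : W₀ ⊓ W' = ⊥) : Van2 F N c c' W₀ W' := by
  classical
  obtain ⟨x, hx, hx0⟩ : ∃ x ∈ W₀, x ≠ 0 := by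
    by_contra h
    push Not at h
    have : W₀ = ⊥ := (Submodule.eq_bot_iff _).2 h
    have h2 := hW₀.2
    rw [this, finrank_bot] at h2
    omega
  refine van2_of_root hcf hcf' hcusp hW₀.2 hW'.2 (K ∙ x) ((Submodule.span_singleton_le_iff_mem _ _).2 hx)
    (fun h => hx0 (Submodule.span_singleton_eq_bot.1 h)) (fun h => ?_) fun y hy f hf => ?_
  · have h2 := hW₀.2
    rw [← h, finrank_span_singleton hx0] at h2
    omega
  · have hyW : y ∈ W₀ := ((Submodule.span_singleton_le_iff_mem _ _).2 hx) hy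
    exact exists_root_perp2 hN hW₀.1 hperp hyW f (fun w hw => by
      have : (w : V) ∈ W₀ ⊓ W' := ⟨w.2, hw⟩
      rw [h0] at this
      have e : w = 0 := Subtype.ext ((Submodule.mem_bot K).1 this)
      rw [e, map_zero]) (hf ⟨y, hyW⟩ hy)

/-- the Levi subgroup of two opposite subspaces, determinant in `D` -/
def leviD (F : CForm K V) (N : Subgroup F.iso) (D : Subgroup Kˣ) (W₀ W' : Submodule K V) : Subgroup F.iso where
  carrier := {g | g ∈ N ∧ g ∈ F.TT W' ∧ (∀ v, (∀ w ∈ W₀, F.B v w = 0) → (∀ w ∈ W', F.B v w = 0) →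
    (g : V ≃ₗ[K] V) v = v) ∧ ∃ hg : g ∈ F.TT W₀, LinearEquiv.det (res (F.iso.subtype g) W₀ hg.1) ∈ D}
  one_mem' := ⟨N.one_mem, (F.TT W').one_mem, fun _ _ _ => rfl, (F.TT W₀).one_mem, by
    have : res (F.iso.subtype 1) W₀ ((F.TT W₀).one_mem).1 = 1 := by
      ext w
      rfl
    rw [this, map_one]
    exact D.one_mem⟩
  mul_mem' := by
    rintro x y ⟨hx1, hx2, hx3, hx4, hx5⟩ ⟨hy1, hy2, hy3, hy4, hy5⟩
    refine ⟨N.mul_mem hx1 hy1, (F.TT W').mul_mem hx2 hy2, fun v hv hv' => ?_, (F.TT W₀).mul_mem hx4 hy4, ?_⟩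
    · rw [Subgroup.coe_mul, LinearEquiv.mul_apply, hy3 v hv hv', hx3 v hv hv']
    · have : res (F.iso.subtype (x * y)) W₀ ((F.TT W₀).mul_mem hx4 hy4).1 =
          res (F.iso.subtype x) W₀ hx4.1 * res (F.iso.subtype y) W₀ hy4.1 := by
        ext w
        rfl
      rw [this, map_mul]
      exact D.mul_mem hx5 hy5
  inv_mem' := by
    rintro x ⟨hx1, hx2, hx3, hx4, hx5⟩
    refine ⟨N.inv_mem hx1, (F.TT W').inv_mem hx2, fun v hv hv' => ?_, (F.TT W₀).inv_mem hx4, ?_⟩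
    · have h1 : ((x⁻¹ : F.iso) : V ≃ₗ[K] V) ((x : V ≃ₗ[K] V) v) = v := (x : V ≃ₗ[K] V).symm_apply_apply v
      rwa [hx3 v hv hv'] at h1
    · have : res (F.iso.subtype x⁻¹) W₀ ((F.TT W₀).inv_mem hx4).1 = (res (F.iso.subtype x) W₀ hx4.1)⁻¹ := by
        rw [eq_inv_iff_mul_eq_one]
        ext w
        exact (x : V ≃ₗ[K] V).symm_apply_apply w
      rw [this, map_inv]
      exact D.inv_mem hx5

theorem det_glE {k : ℕ} {W : Submodule K V} (b : Basis (Fin k) K W) (f : W ≃ₗ[K] W) :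
    Matrix.GeneralLinearGroup.det (glE b f) = LinearEquiv.det f := by
  apply Units.ext
  rw [Matrix.GeneralLinearGroup.val_det_apply, coe_glE, LinearMap.det_toMatrix, LinearEquiv.coe_det]

/-- the homomorphism of the Levi subgroup to `DL D k` -/
theorem exists_levi_hom [FiniteDimensional K V] {k : ℕ} {N : Subgroup F.iso} {D : Subgroup Kˣ} (hD : HasLevi F N D k)
    {W₀ W' : Submodule K V} (hW₀ : W₀ ∈ F.Om k) (hW' : W' ∈ F.Om k) (h0 : W₀ ⊓ F.perp W' = ⊥)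
    (b : Basis (Fin k) K W₀) :
    ∃ f : leviD F N D W₀ W' →* DL D k, Function.Surjective f ∧ ∀ (l : leviD F N D W₀ W')
      (h : W₀.map (F.iso.subtype l : V →ₗ[K] V) = W₀), (f l : GL (Fin k) K) = glE b (res (F.iso.subtype l) W₀ h) := by
  classical
  have h0' := opp_symm (F := F) hW₀.2 hW'.2 h0
  have hst : ∀ l : leviD F N D W₀ W', W₀.map (F.iso.subtype l : V →ₗ[K] V) = W₀ := fun l => by
    obtain ⟨-, -, -, h, -⟩ := l.2
    exact h.1
  let f : leviD F N D W₀ W' →* DL D k :=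
    { toFun := fun l => ⟨glE b (res (F.iso.subtype l) W₀ (hst l)), by
        change Matrix.GeneralLinearGroup.det _ ∈ D
        rw [det_glE]
        obtain ⟨-, -, -, h, h'⟩ := l.2
        exact h'⟩
      map_one' := by
        apply Subtype.ext
        change glE b (res (F.iso.subtype 1) W₀ _) = 1
        have : ∀ h, res (F.iso.subtype 1) W₀ h = 1 := fun h => by
          ext w
          rfl
        rw [this, map_one]
      map_mul' := fun x y => by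
        apply Subtype.ext
        change glE b (res (F.iso.subtype (x * y)) W₀ _) = glE b (res (F.iso.subtype x) W₀ _) * glE b (res (F.iso.subtype y) W₀ _)
        rw [← map_mul]
        congr 1 }
  refine ⟨f, ?_, fun l h => rfl⟩
  rintro ⟨A, hA⟩
  obtain ⟨a, rfl⟩ := (glE b).surjective A
  obtain ⟨g, hg1, hg3, hg4, hg2⟩ := F.exists_levi hW₀.1 hW'.1
    (fun w hw hw' => by
      have : w ∈ W₀ ⊓ F.perp W' := ⟨hw, hw'⟩
      rw [h0] at this
      exact (Submodule.mem_bot K).1 this)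
    (fun w hw hw' => by
      have : w ∈ W' ⊓ F.perp W₀ := ⟨hw, fun w' hw'' => F.B_eq_zero (hw' w' hw'')⟩
      rw [h0'] at this
      exact (Submodule.mem_bot K).1 this) a
  have hres : ∀ h : W₀.map (F.iso.subtype g : V →ₗ[K] V) = W₀, res (F.iso.subtype g) W₀ h = a := fun h => by
    ext w
    exact hg1 w
  have hdet : ∀ h : W₀.map (F.iso.subtype g : V →ₗ[K] V) = W₀, LinearEquiv.det (res (F.iso.subtype g) W₀ h) ∈ D := by
    intro h
    rw [hres h]
    change Matrix.GeneralLinearGroup.det _ ∈ D at hA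
    rwa [det_glE] at hA
  have hmem : g ∈ leviD F N D W₀ W' :=
    ⟨hD W₀ hW₀ W' hW' h0 g hg2.1 hg2.2 hg2.1.1 (hdet _) hg4, hg2.2, hg4, hg2.1, hdet _⟩
  refine ⟨⟨g, hmem⟩, Subtype.ext ?_⟩
  change glE b (res (F.iso.subtype g) W₀ _) = glE b a
  rw [hres]

/-- case `W₀ ∩ W'ᗮ = 0` -/
theorem van2_case4 [FiniteDimensional K V] [Finite V] [Finite K] {k : ℕ} {N : Subgroup F.iso} {D : Subgroup Kˣ}
    (hD : HasLevi F N D k) {c c' : GL (Fin k) K → ℂ} (hcf : IsClassFunction _ c) (hcf' : IsClassFunction _ c')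
    (h2 : DOrth D c (c' ∘ F.iota k)) {W₀ W' : Submodule K V} (hW₀ : W₀ ∈ F.Om k) (hW' : W' ∈ F.Om k)
    (h0 : W₀ ⊓ F.perp W' = ⊥) : Van2 F N c c' W₀ W' := by
  classical
  obtain ⟨b, b', hb⟩ := exists_dual_basis hW₀.2 hW'.2 h0
  let _ : Fintype (DL D k) := Fintype.ofFinite _
  obtain ⟨f, hf, hfv⟩ := exists_levi_hom hD hW₀ hW' h0 b
  refine ⟨leviD F N D W₀ W', fun l hl => hl.1, fun l hl => ?_, fun l hl => hl.2.1.1, fun {_} => ?_⟩
  · obtain ⟨-, -, -, h, -⟩ := hl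
    exact h.1
  have e1 : ∀ l : leviD F N D W₀ W', flagTerm F.iso.subtype c l W₀ * conj (flagTerm F.iso.subtype c' l W') =
      (fun A : DL D k => c A * conj (c' (F.iota k A))) (f l) := by
    intro l
    have hl1 : W₀.map (F.iso.subtype l : V →ₗ[K] V) = W₀ := by
      obtain ⟨-, -, -, h, -⟩ := l.2
      exact h.1
    have hl2 : W'.map (F.iso.subtype l : V →ₗ[K] V) = W' := l.2.2.1.1
    rw [flagTerm_of F.iso.subtype c hl1, flagTerm_of F.iso.subtype c' hl2, cl_eq hcf b, cl_eq hcf' b',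
      glE_opp hb hl1 hl2]
    change _ = c (f l : GL (Fin k) K) * conj (c' (F.iota k (f l : GL (Fin k) K)))
    rw [hfv l hl1]
  rw [Finset.sum_congr rfl fun l _ => e1 l, sum_comp_hom f hf (fun A : DL D k => c A * conj (c' (F.iota k A)))]
  have h3 : ∑ A : DL D k, c A * conj (c' (F.iota k A)) = 0 := h2
  rw [h3, mul_zero]

/-- case `W₀ = W'` -/
theorem van2_case5 [FiniteDimensional K V] [Finite V] [Finite K] {k : ℕ} {N : Subgroup F.iso} {D : Subgroup Kˣ}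
    (hD : HasLevi F N D k) {c c' : GL (Fin k) K → ℂ} (hcf : IsClassFunction _ c) (hcf' : IsClassFunction _ c')
    (h1 : DOrth D c c') {W₀ : Submodule K V} (hW₀ : W₀ ∈ F.Om k) : Van2 F N c c' W₀ W₀ := by
  classical
  obtain ⟨W', hW', h0⟩ := F.exists_opp hW₀
  obtain ⟨b, b', hb⟩ := exists_dual_basis hW₀.2 hW'.2 h0
  let _ : Fintype (DL D k) := Fintype.ofFinite _
  obtain ⟨f, hf, hfv⟩ := exists_levi_hom hD hW₀ hW' h0 b
  have hst : ∀ l ∈ leviD F N D W₀ W', l ∈ stabW F.iso.subtype W₀ := fun l hl => by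
    obtain ⟨-, -, -, h, -⟩ := hl
    exact h.1
  refine ⟨leviD F N D W₀ W', fun l hl => hl.1, hst, hst, fun {_} => ?_⟩
  have e1 : ∀ l : leviD F N D W₀ W', flagTerm F.iso.subtype c l W₀ * conj (flagTerm F.iso.subtype c' l W₀) =
      (fun A : DL D k => c A * conj (c' A)) (f l) := by
    intro l
    have hl1 : W₀.map (F.iso.subtype l : V →ₗ[K] V) = W₀ := hst l l.2
    rw [flagTerm_of F.iso.subtype c hl1, flagTerm_of F.iso.subtype c' hl1, cl_eq hcf b, cl_eq hcf' b, ← hfv l hl1]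
  rw [Finset.sum_congr rfl fun l _ => e1 l, sum_comp_hom f hf (fun A : DL D k => c A * conj (c' A))]
  have h3 : ∑ A : DL D k, c A * conj (c' A) = 0 := h1
  rw [h3, mul_zero]

/-- distinct subspaces -/
theorem van2_ne [FiniteDimensional K V] [Finite V] [Finite K] {k : ℕ} (hk : 2 ≤ k) {N : Subgroup F.iso}
    {D : Subgroup Kˣ} (hN : HasRoots F N) (hD : HasLevi F N D k) {c c' : GL (Fin k) K → ℂ}
    (hcf : IsClassFunction _ c) (hcf' : IsClassFunction _ c') (hcusp : IsCusp c)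
    (h2 : DOrth D c (c' ∘ F.iota k)) {W₀ W' : Submodule K V} (hW₀ : W₀ ∈ F.Om k) (hW' : W' ∈ F.Om k) (hne : W' ≠ W₀) :
    Van2 F N c c' W₀ W' := by
  by_cases h0 : W₀ ⊓ F.perp W' = ⊥
  · exact van2_case4 hD hcf hcf' h2 hW₀ hW' h0
  · by_cases h1 : W₀ ⊓ F.perp W' = W₀
    · have h1' : W₀ ≤ F.perp W' := inf_eq_left.1 h1
      by_cases h3 : W₀ ⊓ W' = ⊥
      · exact van2_case3 hk hN hcf hcf' hcusp hW₀ hW' h1' h3
      · exact van2_case2 hN hcf hcf' hcusp hW₀ hW' h1' h3 hne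
    · exact van2_case1 hN hcf hcf' hcusp hW₀ hW' h0 h1

/-- **all pairs** -/
theorem van2 [FiniteDimensional K V] [Finite V] [Finite K] {k : ℕ} (hk : 2 ≤ k) {N : Subgroup F.iso}
    {D : Subgroup Kˣ} (hN : HasRoots F N) (hD : HasLevi F N D k) {c c' : GL (Fin k) K → ℂ}
    (hcf : IsClassFunction _ c) (hcf' : IsClassFunction _ c') (hcusp : IsCusp c)
    (h1 : DOrth D c c') (h2 : DOrth D c (c' ∘ F.iota k)) {W₀ W' : Submodule K V} (hW₀ : W₀ ∈ F.Om k)
    (hW' : W' ∈ F.Om k) : Van2 F N c c' W₀ W' := by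
  by_cases hne : W' = W₀
  · subst hne
    exact van2_case5 hD hcf hcf' h1 hW₀
  · exact van2_ne hk hN hD hcf hcf' hcusp h2 hW₀ hW' hne

end Cfsg.Agent.H576.Ext
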