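import Cfsg.Agent.H576.Ext.SemiL
import Cfsg.Agent.H624.ExtCent
import Cfsg.Agent.H525.ExtMult
import Cfsg.Agent.H464.ExtSemi
import Cfsg.Agent.CharDeep.LinearChar

/-!
# The row theorem for the classical groups (helper576, S4832)

* `Sim F` : the linear similitudes with their multipliers; `simChar F c ν` : the extension of `F.hc c 1` to `Sim F`;
* `simAut` : `Sim F` acts on `S = N / scalars`;
* `ext_hc`, `ext_hc_sub` : the constituents of `F.hc c 1` in `Irr(S)` extend to their stabilisers.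
-/

set_option autoImplicit false

open scoped ComplexConjugate
open Cfsg

namespace Cfsg.Agent.H576.Ext

open Cfsg.Agent.H477.HC Cfsg.Agent.H53.HC Cfsg.Agent.Characters Cfsg.Agent.OddOrderCharacters.Clifford Module
  Cfsg.Agent.H477.HC.CForm MulAction

universe u v w

section Semi

variable {K : Type u} [Field K] {V : Type v} [AddCommGroup V] [Module K V] (F : CForm K V)

/-- the linear similitudes with their multipliers -/
def Sim : Subgroup ((V ≃ₗ[K] V) × Kˣ) where
  carrier := {s | (∀ v w, F.B (s.1 v) (s.1 w) = s.2 * F.B v w) ∧ ∀ v, F.Q (s.1 v) = s.2 * F.Q v}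
  one_mem' := ⟨fun v w => by
      change F.B v w = ((1 : Kˣ) : K) * F.B v w
      rw [Units.val_one, one_mul], fun v => by
      change F.Q v = ((1 : Kˣ) : K) * F.Q v
      rw [Units.val_one, one_mul]⟩
  mul_mem' := by
    rintro a b ⟨h1, h2⟩ ⟨h3, h4⟩
    refine ⟨fun v w => ?_, fun v => ?_⟩
    · rw [Prod.fst_mul, Prod.snd_mul, LinearEquiv.mul_apply, LinearEquiv.mul_apply, h1, h3, Units.val_mul, mul_assoc]
    · rw [Prod.fst_mul, Prod.snd_mul, LinearEquiv.mul_apply, h2, h4, Units.val_mul, mul_assoc]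
  inv_mem' := by
    rintro a ⟨h1, h2⟩
    have key : ∀ v, a.1 (a.1⁻¹ v) = v := a.1.apply_symm_apply
    refine ⟨fun v w => ?_, fun v => ?_⟩
    · rw [Prod.fst_inv, Prod.snd_inv, Units.val_inv_eq_inv_val, eq_inv_mul_iff_mul_eq₀ a.2.ne_zero, ← h1, key, key]
    · rw [Prod.fst_inv, Prod.snd_inv, Units.val_inv_eq_inv_val, eq_inv_mul_iff_mul_eq₀ a.2.ne_zero, ← h2, key]

/-- a similitude as a semisimilarity -/
def Sim.toSemi {F : CForm K V} (s : Sim F) : Semi F where
  τ := RingEquiv.refl K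
  lam := (s.1.2 : K)
  hlam := s.1.2.ne_zero
  γ := s.1.1.toAddEquiv
  smul := fun a v => s.1.1.map_smul a v
  hB := s.2.1
  hQ := s.2.2

/-- the linear action of the similitudes -/
def simRho : Sim F →* (V ≃ₗ[K] V) := (MonoidHom.fst _ _).comp (Sim F).subtype

/-- the multiplier -/
def simMu : Sim F →* Kˣ := (MonoidHom.snd _ _).comp (Sim F).subtype

/-- isometries are similitudes -/
def isoSim : F.iso →* Sim F where
  toFun g := ⟨((g : V ≃ₗ[K] V), 1), fun v w => by
      change F.B ((g : V ≃ₗ[K] V) v) ((g : V ≃ₗ[K] V) w) = ((1 : Kˣ) : K) * F.B v w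
      rw [F.iso_B, Units.val_one, one_mul], fun v => by
      change F.Q ((g : V ≃ₗ[K] V) v) = ((1 : Kˣ) : K) * F.Q v
      rw [F.iso_Q, Units.val_one, one_mul]⟩
  map_one' := rfl
  map_mul' := fun g h => by
    apply Subtype.ext
    refine Prod.ext rfl ?_
    change (1 : Kˣ) = 1 * 1
    rw [one_mul]

theorem isoSim_injective : Function.Injective (isoSim F) := fun g h e =>
  Subtype.ext (congrArg (fun s : Sim F => s.1.1) e)

theorem Om_map_sim {k : ℕ} (s : Sim F) (W : Submodule K V) (hW : W ∈ F.Om k) :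
    W.map (simRho F s : V →ₗ[K] V) ∈ F.Om k := by
  refine ⟨⟨?_, ?_⟩, ?_⟩
  · rintro _ ⟨w, hw, rfl⟩
    exact (s.2.2 w).trans (by rw [hW.1.1 w hw, mul_zero])
  · rintro _ ⟨w, hw, rfl⟩ _ ⟨w', hw', rfl⟩
    exact (s.2.1 w w').trans (by rw [hW.1.2 w hw w' hw', mul_zero])
  · rw [← hW.2]
    exact LinearEquiv.finrank_map_eq (simRho F s) W

/-- the action on the totally singular `k`-subspaces -/
@[reducible] def simAct (k : ℕ) : MulAction (Sim F) (F.Om k) := subAct (simRho F) (F.Om k) (Om_map_sim F)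

/-- the local term -/
noncomputable def simTerm {k : ℕ} (c : GL (Fin k) K → ℂ) (ν : Kˣ →* ℂˣ) : Sim F → F.Om k → ℂ :=
  fun s W => flagTerm (simRho F) c s W.1 * ((ν (simMu F s)⁻¹ : ℂˣ) : ℂ)

/-- the extension of `F.hc c 1` to the similitudes -/
noncomputable def simChar {k : ℕ} [Fintype (F.Om k)] (c : GL (Fin k) K → ℂ) (ν : Kˣ →* ℂˣ) : Sim F → ℂ :=
  letI := simAct F k; orbSum (simTerm F c ν)

theorem simTerm_conj {k : ℕ} {c : GL (Fin k) K → ℂ} (hc : IsClassFunction _ c) (ν : Kˣ →* ℂˣ) (x s : Sim F)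
    (W : F.Om k) : letI := simAct F k; simTerm F c ν (x * s * x⁻¹) (x • W) = simTerm F c ν s W := by
  letI := simAct F k
  unfold simTerm
  congr 1
  · exact flagTerm_conj (simRho F) hc x s W.1
  · congr 3
    rw [map_mul, map_mul, map_inv, mul_comm (simMu F x), mul_inv_cancel_right]

theorem simChar_iso {k : ℕ} [Fintype (F.Om k)] (c : GL (Fin k) K → ℂ) (ν : Kˣ →* ℂˣ) (g : F.iso) :
    simChar F c ν (isoSim F g) = F.hc c (fun _ _ => 1) g := by
  classical
  letI := simAct F k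
  unfold simChar hc orbSum
  refine Finset.sum_congr rfl fun W _ => ?_
  have e1 : flagTerm (simRho F) c (isoSim F g) W.1 = flagTerm F.iso.subtype c g W.1 := rfl
  have e2 : ((ν (simMu F (isoSim F g))⁻¹ : ℂˣ) : ℂ) = 1 := by
    have : simMu F (isoSim F g) = 1 := rfl
    rw [this, inv_one, map_one, Units.val_one]
  split_ifs with h
  · unfold simTerm
    rw [e1, e2]
  · rw [mul_one]
    unfold flagTerm
    rw [dif_neg]
    intro h'
    exact h (Subtype.ext h')

theorem isCharacter_simChar [Finite K] [FiniteDimensional K V] [Finite V] {k : ℕ} [Fintype (F.Om k)]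
    {c : GL (Fin k) K → ℂ} (hc : IsCharacter _ c) (ν : Kˣ →* ℂˣ) : IsCharacter (Sim F) (simChar F c ν) := by
  classical
  letI := simAct F k
  have hG : Finite (V ≃ₗ[K] V) := Finite.of_injective (fun e : V ≃ₗ[K] V => (e : V → V)) DFunLike.coe_injective
  let _ : Fintype (Sim F) := Fintype.ofFinite _
  have hcf := Core.isCharacter_isClassFunction hc
  refine isCharacter_orbSum (simTerm F c ν) (simTerm_conj F hcf ν) fun W => ?_
  let b : Basis (Fin k) K W.1 := finBasisOfFinrankEq K W.1 W.2.2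
  have hst : ∀ s : stabilizer (Sim F) W, (s : Sim F) ∈ stabW (simRho F) W.1 := fun s =>
    congrArg Subtype.val (mem_stabilizer_iff.1 s.2)
  let f : stabilizer (Sim F) W →* GL (Fin k) K :=
    (glE b).toMonoidHom.comp ((resHom (simRho F) W.1).comp
      { toFun := fun s => ⟨s, hst s⟩
        map_one' := rfl
        map_mul' := fun _ _ => rfl })
  let l : stabilizer (Sim F) W →* ℂˣ := (ν.comp (invMonoidHom.comp (simMu F))).comp (stabilizer (Sim F) W).subtype
  have e : stabFun (simTerm F c ν) W = (c ∘ f) * (fun s => ((l s : ℂˣ) : ℂ)) := by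
    ext s
    change flagTerm (simRho F) c (s : Sim F) W.1 * _ = c (f s) * _
    rw [flagTerm_of (simRho F) c (hst s), cl_eq hcf b]
    rfl
  rw [e]
  exact Core.isCharacter_mul (Core.isCharacter_comp f hc) (CharDeep.LinearChar.isCharacter_of_hom l)

theorem isIrr_simChar [Finite K] [FiniteDimensional K V] [Finite V] {k : ℕ} [Fintype (F.Om k)]
    {c : GL (Fin k) K → ℂ} (hc : IsIrrCharacter _ c) (hcusp : IsCusp c) (hdual : c ∘ F.iota k ≠ c) (ν : Kˣ →* ℂˣ)
    {W₀ : Submodule K V} (hW₀ : W₀ ∈ F.Om k) : IsIrrCharacter (Sim F) (simChar F c ν) := by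
  classical
  have hG : Finite (V ≃ₗ[K] V) := Finite.of_injective (fun e : V ≃ₗ[K] V => (e : V → V)) DFunLike.coe_injective
  let _ : Fintype F.iso := Fintype.ofFinite _
  refine CharactersDeep.MaxInduced.isIrr_of_comp (isoSim F) (isCharacter_simChar F (Core.isIrr_isCharacter hc) ν) ?_
  have e : simChar F c ν ∘ isoSim F = F.hc c (fun _ _ => 1) := funext fun g => simChar_iso F c ν g
  rw [e]
  exact F.isIrr_hc_one hc hcusp hdual hW₀

variable {F} {N : Subgroup F.iso}
  (hinv : ∀ (s : Semi F) (n : N), ∃ n' : N, ∀ v,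
    ((n' : F.iso) : V ≃ₗ[K] V) (s.γ v) = s.γ (((n : F.iso) : V ≃ₗ[K] V) v))

/-- conjugation by a semisimilarity on `N` -/
def cN (s : Semi F) : N →* N :=
  (s.conj.comp N.subtype).codRestrict N (fun n => by
    obtain ⟨n', hn'⟩ := hinv s n
    have := s.eq_conj hn'
    change s.conj (n : F.iso) ∈ N
    rw [← this]
    exact n'.2)

theorem cN_coe (s : Semi F) (n : N) : ((cN hinv s n : N) : F.iso) = s.conj n := rfl

theorem cN_γ (s : Semi F) (n : N) (v : V) :
    (((cN hinv s n : N) : F.iso) : V ≃ₗ[K] V) (s.γ v) = s.γ (((n : F.iso) : V ≃ₗ[K] V) v) := s.conj_γ n v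

theorem cN_unique (s : Semi F) {n n' : N}
    (h : ∀ v, ((n' : F.iso) : V ≃ₗ[K] V) (s.γ v) = s.γ (((n : F.iso) : V ≃ₗ[K] V) v)) : n' = cN hinv s n :=
  Subtype.ext (s.eq_conj h)

theorem cN_injective (s : Semi F) : Function.Injective (cN hinv s) := by
  intro a b h
  apply Subtype.ext
  apply Subtype.ext
  ext v
  apply s.γ.injective
  rw [← cN_γ hinv, ← cN_γ hinv, h]

variable {S : Type w} [Group S] (q : N →* S)
  (hker : ∀ n : N, q n = 1 ↔ ∃ a : K, ∀ v, ((n : F.iso) : V ≃ₗ[K] V) v = a • v)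

include hker

theorem q_cN_one (s : Semi F) {n : N} (h : q n = 1) : q (cN hinv s n) = 1 := by
  obtain ⟨a, ha⟩ := (hker n).1 h
  refine (hker _).2 ⟨s.τ a, fun v => ?_⟩
  obtain ⟨w, rfl⟩ := s.γ.surjective v
  rw [cN_γ, ha, s.smul]

theorem q_cN_congr (s : Semi F) {m n : N} (h : q m = q n) : q (cN hinv s m) = q (cN hinv s n) := by
  have h1 : q (m⁻¹ * n) = 1 := by rw [map_mul, map_inv, h, inv_mul_cancel]
  have h2 := q_cN_one hinv q hker s h1
  rw [map_mul, map_mul, map_inv, map_inv, inv_mul_eq_one] at h2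
  exact h2

omit hker in
theorem cN_mul (s t : Sim F) (n : N) : cN hinv (Sim.toSemi (s * t)) n = cN hinv (Sim.toSemi s) (cN hinv (Sim.toSemi t) n) := by
  symm
  refine cN_unique hinv _ fun v => ?_
  change (((cN hinv (Sim.toSemi s) (cN hinv (Sim.toSemi t) n) : N) : F.iso) : V ≃ₗ[K] V)
    ((Sim.toSemi s).γ ((Sim.toSemi t).γ v)) = (Sim.toSemi s).γ ((Sim.toSemi t).γ (((n : F.iso) : V ≃ₗ[K] V) v))
  rw [cN_γ, cN_γ]

omit hker in
theorem cN_sim_one (n : N) : cN hinv (Sim.toSemi (1 : Sim F)) n = n := by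
  symm
  exact cN_unique hinv _ fun v => rfl

variable (hq : Function.Surjective q)

include hq

/-- the action of the similitudes on `S` -/
theorem exists_simAut : ∃ π : Sim F →* MulAut S, ∀ (s : Sim F) (n : N), π s (q n) = q (cN hinv (Sim.toSemi s) n) := by
  classical
  choose r hr using hq
  let a : Sim F → S → S := fun s x => q (cN hinv (Sim.toSemi s) (r x))
  have ha : ∀ (s : Sim F) (n : N), a s (q n) = q (cN hinv (Sim.toSemi s) n) := fun s n =>
    q_cN_congr hinv q hker _ (hr _)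
  clear_value a
  have hmul : ∀ (s : Sim F) (x y : S), a s (x * y) = a s x * a s y := by
    intro s x y
    obtain ⟨m, rfl⟩ : ∃ m, q m = x := ⟨r x, hr x⟩
    obtain ⟨n, rfl⟩ : ∃ n, q n = y := ⟨r y, hr y⟩
    rw [← map_mul, ha, ha, ha, map_mul, map_mul]
  have hcomp : ∀ (s t : Sim F) (x : S), a (s * t) x = a s (a t x) := by
    intro s t x
    obtain ⟨m, rfl⟩ : ∃ m, q m = x := ⟨r x, hr x⟩
    rw [ha, ha, ha, cN_mul]
  have hone : ∀ x : S, a 1 x = x := by
    intro x
    obtain ⟨m, rfl⟩ : ∃ m, q m = x := ⟨r x, hr x⟩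
    rw [ha, cN_sim_one]
  let π : Sim F →* MulAut S :=
    { toFun := fun s =>
        { toFun := a s
          invFun := a s⁻¹
          left_inv := fun x => by rw [← hcomp, inv_mul_cancel, hone]
          right_inv := fun x => by rw [← hcomp, mul_inv_cancel, hone]
          map_mul' := hmul s }
      map_one' := by
        ext x
        exact hone x
      map_mul' := fun s t => by
        ext x
        exact hcomp s t x }
  exact ⟨π, ha⟩

end Semi

section Mono

variable {S : Type u} [Group S] [Finite S] {θ : S → ℂ}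

theorem extTo_mono' (hθ : IsIrrCharacter S θ) {A B : Subgroup (MulAut S)} (hI : (MulAut.conj (G := S)).range ≤ A)
    (hAB : A ≤ B) (h : ExtTo θ B) : ExtTo θ A := by
  obtain ⟨ψ, hψ, he⟩ := h
  refine ⟨ψ ∘ Subgroup.inclusion hAB, ?_, fun s hs => he s _⟩
  let j : S →* A := (MulAut.conj (G := S)).codRestrict A (fun s => hI ⟨s, rfl⟩)
  refine CharactersDeep.MaxInduced.isIrr_of_comp j (Core.isCharacter_comp _ (Core.isIrr_isCharacter hψ)) ?_
  have : (ψ ∘ Subgroup.inclusion hAB) ∘ j = θ := funext fun s => he s _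
  rw [this]
  exact hθ

end Mono

section Row

variable {K : Type u} [Field K] {V : Type v} [AddCommGroup V] [Module K V] (F : CForm K V)

/-- **THE ROW THEOREM**, for a subgroup `A` of `Aut S` -/
theorem ext_hc_sub [Finite K] [FiniteDimensional K V] [Finite V] {k : ℕ} [Fintype (F.Om k)] (hk : 2 ≤ k)
    {N : Subgroup F.iso} [Fintype N] (hNn : ∀ (s : Semi F) (n : N), ∃ n' : N, ∀ v,
      ((n' : F.iso) : V ≃ₗ[K] V) (s.γ v) = s.γ (((n : F.iso) : V ≃ₗ[K] V) v))
    {D : Subgroup Kˣ} (hN : HasRoots F N) (hD : HasLevi F N D k)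
    {c : GL (Fin k) K → ℂ} (hc : IsIrrCharacter _ c) (hcusp : IsCusp c) (hdual : c ∘ F.iota k ≠ c)
    (hself : DIrr D c) (hopp : DOrth D c (dualc F.σ c))
    (hgen : ∀ τ : K ≃+* K, (∃ x, τ x ≠ x) → DOrth D c (fmap (τ : K →+* K) c) ∧
      DOrth D c (dualc F.σ (fmap (τ : K →+* K) c)))
    (hnu : ∃ ν : Kˣ →* ℂˣ, ∀ (z : Kˣ) (A : GL (Fin k) K), c (Matrix.GeneralLinearGroup.scalar (Fin k) z * A) =
      (ν (z * Units.map (F.σ : K →* K) z) : ℂ) * c A)
    {S : Type w} [Group S] [Finite S] (hZ : Subgroup.center S = ⊥) (q : N →* S) (hq : Function.Surjective q)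
    (hker : ∀ n : N, q n = 1 ↔ ∃ a : K, ∀ v, ((n : F.iso) : V ≃ₗ[K] V) v = a • v)
    (A : Subgroup (MulAut S)) (hI : (MulAut.conj (G := S)).range ≤ A)
    (hAut : ∀ α ∈ A, ∃ s : Semi F, ∀ n n' : N, (∀ v, ((n' : F.iso) : V ≃ₗ[K] V) (s.γ v) =
      s.γ (((n : F.iso) : V ≃ₗ[K] V) v)) → α (q n) = q n')
    {θ : S → ℂ} (hθ : IsIrrCharacter S θ)
    (h0 : classInner (fun n : N => F.hc c (fun _ _ => 1) n) (fun n => θ (q n)) ≠ 0) : ExtTo θ (A ⊓ stab θ) := by
  classical
  have hG : Finite (V ≃ₗ[K] V) := Finite.of_injective (fun e : V ≃ₗ[K] V => (e : V → V)) DFunLike.coe_injective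
  obtain ⟨ν, hν⟩ := hnu
  have hcf := Core.isIrr_isClassFunction hc
  have hθq : IsIrrCharacter N (fun n => θ (q n)) := Core.isIrr_comp q hq hθ
  -- a totally singular subspace
  obtain ⟨W₀, hW₀⟩ : ∃ W, W ∈ F.Om k := by
    by_contra hno
    push Not at hno
    apply h0
    have : (fun n : N => F.hc c (fun _ _ => 1) n) = 0 := by
      ext n
      unfold CForm.hc
      exact Finset.sum_eq_zero fun W _ => absurd W.2 (hno W.1)
    rw [this, Core.classInner_zero_left]
  obtain ⟨π, hπ⟩ := exists_simAut hNn q hker hq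
  -- the stabiliser lies in the image of the similitudes
  have hle : A ⊓ stab θ ≤ π.range ⊓ stab θ := by
    rintro α ⟨hαA, hαθ⟩
    refine ⟨?_, hαθ⟩
    obtain ⟨s, hs⟩ := hAut α hαA
    have hs' : ∀ n : N, α (q n) = q (cN hNn s n) := fun n => hs n _ (fun v => cN_γ hNn s n v)
    by_cases hτ : ∃ x, s.τ x ≠ x
    · exfalso
      obtain ⟨g1, g2⟩ := hgen s.τ hτ
      let β : N ≃* N := MulEquiv.ofBijective (cN hNn s) (Finite.injective_iff_bijective.1 (cN_injective hNn s))
      refine eq_one_of_fix F hk hN hD hc hcusp s.τ g1 g2 hθq h0 s.γ s.smul (fun v w => ?_) (fun v => ?_) β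
        (fun n v => cN_γ hNn s n v) fun n => ?_
      · rw [s.hB, mul_eq_zero, map_eq_zero]
        exact ⟨fun h => h.resolve_left s.hlam, fun h => Or.inr h⟩
      · rw [s.hQ, mul_eq_zero, map_eq_zero]
        exact ⟨fun h => h.resolve_left s.hlam, fun h => Or.inr h⟩
      · change θ (q (cN hNn s n)) = θ (q n)
        rw [← hs']
        exact hαθ (q n)
    · push Not at hτ
      let g : V ≃ₗ[K] V :=
        { s.γ with
          map_smul' := fun a v => by
            change s.γ (a • v) = a • s.γ v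
            rw [s.smul, hτ] }
      have hg : ∀ v, g v = s.γ v := fun v => rfl
      let σ : Sim F := ⟨(g, Units.mk0 s.lam s.hlam), fun v w => by
        change F.B (s.γ v) (s.γ w) = s.lam * F.B v w
        rw [s.hB, hτ], fun v => by
        change F.Q (s.γ v) = s.lam * F.Q v
        rw [s.hQ, hτ]⟩
      refine ⟨σ, ?_⟩
      ext x
      obtain ⟨n, rfl⟩ := hq x
      rw [hπ, hs']
      exact congrArg q (cN_unique hNn (Sim.toSemi σ) (n' := cN hNn s n) fun v => cN_γ hNn s n v).symm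
  refine extTo_mono' hθ (le_inf hI ?_) hle ?_
  · rintro _ ⟨s, rfl⟩ t
    exact Core.isIrr_isClassFunction hθ t s
  -- the group `N` in the similitudes
  let j : N →* Sim F := (isoSim F).comp N.subtype
  have hj : Function.Injective j := (isoSim_injective F).comp N.subtype_injective
  let e : N ≃* j.range := MonoidHom.ofInjective hj
  have he : ∀ n : N, ((e n : j.range) : Sim F) = j n := fun n => rfl
  refine extTo_of_hom hZ hθ π j.range (q.comp e.symm.toMonoidHom) (hq.comp e.symm.surjective) (fun m => ?_)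
    (isIrr_simChar F hc hcusp hdual ν hW₀) (fun s hs => ?_) ?_
  · obtain ⟨n, rfl⟩ := e.surjective m
    ext x
    obtain ⟨m, rfl⟩ := hq x
    change π (j n) (q m) = q (e.symm (e n)) * q m * (q (e.symm (e n)))⁻¹
    rw [hπ, MulEquiv.symm_apply_apply, ← map_inv, ← map_mul, ← map_mul]
    refine congrArg q (Eq.symm (cN_unique hNn (Sim.toSemi (j n)) fun v => ?_))
    change (n : V ≃ₗ[K] V) ((m : V ≃ₗ[K] V) ((n⁻¹ : V ≃ₗ[K] V) ((n : V ≃ₗ[K] V) v))) = (n : V ≃ₗ[K] V) ((m : V ≃ₗ[K] V) v)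
    have : (n⁻¹ : V ≃ₗ[K] V) ((n : V ≃ₗ[K] V) v) = v := (n : V ≃ₗ[K] V).symm_apply_apply v
    rw [this]
  · -- the kernel
    have hcent : ∀ n ∈ N, ∃ a : K, ∀ v, s.1.1 ((n : V ≃ₗ[K] V) v) = a • (n : V ≃ₗ[K] V) (s.1.1 v) := by
      intro n hn
      have h1 := hπ s ⟨n, hn⟩
      rw [hs] at h1
      change q ⟨n, hn⟩ = q (cN hNn (Sim.toSemi s) ⟨n, hn⟩) at h1
      have h2 : q ((⟨n, hn⟩ : N)⁻¹ * cN hNn (Sim.toSemi s) ⟨n, hn⟩) = 1 := by
        rw [map_mul, map_inv, h1, inv_mul_cancel]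
      obtain ⟨a, ha⟩ := (hker _).1 h2
      refine ⟨a, fun v => ?_⟩
      have h3 : (((cN hNn (Sim.toSemi s) ⟨n, hn⟩ : N) : F.iso) : V ≃ₗ[K] V) (s.1.1 v) = s.1.1 ((n : V ≃ₗ[K] V) v) :=
        cN_γ hNn (Sim.toSemi s) ⟨n, hn⟩ v
      rw [← h3]
      have h4 := ha (s.1.1 v)
      have h5 : (n : V ≃ₗ[K] V) (((((⟨n, hn⟩ : N)⁻¹ * cN hNn (Sim.toSemi s) ⟨n, hn⟩ : N) : F.iso) : V ≃ₗ[K] V)
          (s.1.1 v)) = (((cN hNn (Sim.toSemi s) ⟨n, hn⟩ : N) : F.iso) : V ≃ₗ[K] V) (s.1.1 v) :=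
        (n : V ≃ₗ[K] V).apply_symm_apply _
      rw [← h5, h4, map_smul]
    have hval : ∀ W : F.Om k, letI := simAct F k; s • W = W ∧ simTerm F c ν s W = c 1 := by
      intro W
      letI := simAct F k
      obtain ⟨z, hz, hzl⟩ := scal_of_cent F hk hN s.1.1 s.1.2.ne_zero s.2.1 s.2.2 hcent W.2
      have hz0 : z ≠ 0 := by
        rintro rfl
        rw [zero_mul] at hzl
        exact s.1.2.ne_zero hzl.symm
      have hst : W.1.map (simRho F s : V →ₗ[K] V) = W.1 := map_eq_of_le (simRho F) fun w hw => by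
        change s.1.1 w ∈ W.1
        rw [hz w hw]
        exact W.1.smul_mem _ hw
      refine ⟨Subtype.ext hst, ?_⟩
      unfold simTerm
      let b : Basis (Fin k) K W.1 := finBasisOfFinrankEq K W.1 W.2.2
      have e1 : glE b (res (simRho F s) W.1 hst) = Matrix.GeneralLinearGroup.scalar (Fin k) (Units.mk0 z hz0) * 1 := by
        rw [mul_one]
        ext i l
        rw [coe_glE, LinearMap.toMatrix_apply]
        have e2 : (res (simRho F s) W.1 hst : W.1 →ₗ[K] W.1) (b l) = z • b l := Subtype.ext (hz _ (b l).2)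
        rw [e2, map_smul, Finsupp.smul_apply, Basis.repr_self, smul_eq_mul, Matrix.GeneralLinearGroup.coe_scalar,
          Matrix.scalar_apply, Matrix.diagonal_apply, Finsupp.single_apply]
        by_cases hil : i = l
        · simp [hil]
        · rw [if_neg hil, if_neg (Ne.symm hil), mul_zero]
      have e3 : simMu F s = Units.mk0 z hz0 * Units.map (F.σ : K →* K) (Units.mk0 z hz0) := by
        apply Units.ext
        exact hzl.symm
      rw [flagTerm_of (simRho F) c hst, cl_eq hcf b, e1, hν, e3, mul_comm _ (c 1), mul_assoc, ← Units.val_mul, ← map_mul,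
        mul_inv_cancel, map_one, Units.val_one, mul_one]
    have hval1 : ∀ W : F.Om k, letI := simAct F k; simTerm F c ν 1 W = c 1 := by
      intro W
      unfold simTerm
      have hst : W.1.map (simRho F 1 : V →ₗ[K] V) = W.1 := Submodule.map_id _
      have e4 : res (simRho F 1) W.1 hst = 1 := by
        ext w
        rfl
      rw [flagTerm_of (simRho F) c hst, e4, cl_one hcf (finBasisOfFinrankEq K W.1 W.2.2), map_one (simMu F), inv_one,
        map_one, Units.val_one, mul_one]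
    letI := simAct F k
    unfold simChar orbSum
    refine Finset.sum_congr rfl fun W _ => ?_
    rw [if_pos (hval W).1, if_pos (one_smul _ _), (hval W).2, hval1 W]
  · intro _
    have h1 := hc_mf F hk hN hD hc hcusp hself hopp hθq h0
    rw [← h1, Core.classInner_def, Core.classInner_def, Nat.card_congr e.toEquiv]
    congr 1
    symm
    refine Fintype.sum_equiv e.toEquiv _ _ fun n => ?_
    change _ = simChar F c ν (j n) * conj (θ (q (e.symm (e n))))
    rw [MulEquiv.symm_apply_apply]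
    congr 1
    exact (simChar_iso F c ν n).symm

/-- **THE ROW THEOREM.** -/
theorem ext_hc [Finite K] [FiniteDimensional K V] [Finite V] {k : ℕ} [Fintype (F.Om k)] (hk : 2 ≤ k)
    {N : Subgroup F.iso} [Fintype N] (hNn : ∀ (s : Semi F) (n : N), ∃ n' : N, ∀ v,
      ((n' : F.iso) : V ≃ₗ[K] V) (s.γ v) = s.γ (((n : F.iso) : V ≃ₗ[K] V) v))
    {D : Subgroup Kˣ} (hN : HasRoots F N) (hD : HasLevi F N D k)
    {c : GL (Fin k) K → ℂ} (hc : IsIrrCharacter _ c) (hcusp : IsCusp c) (hdual : c ∘ F.iota k ≠ c)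
    (hself : DIrr D c) (hopp : DOrth D c (dualc F.σ c))
    (hgen : ∀ τ : K ≃+* K, (∃ x, τ x ≠ x) → DOrth D c (fmap (τ : K →+* K) c) ∧
      DOrth D c (dualc F.σ (fmap (τ : K →+* K) c)))
    (hnu : ∃ ν : Kˣ →* ℂˣ, ∀ (z : Kˣ) (A : GL (Fin k) K), c (Matrix.GeneralLinearGroup.scalar (Fin k) z * A) =
      (ν (z * Units.map (F.σ : K →* K) z) : ℂ) * c A)
    {S : Type w} [Group S] [Finite S] (hZ : Subgroup.center S = ⊥) (q : N →* S) (hq : Function.Surjective q)
    (hker : ∀ n : N, q n = 1 ↔ ∃ a : K, ∀ v, ((n : F.iso) : V ≃ₗ[K] V) v = a • v)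
    (hAut : ∀ α : MulAut S, ∃ s : Semi F, ∀ n n' : N, (∀ v, ((n' : F.iso) : V ≃ₗ[K] V) (s.γ v) =
      s.γ (((n : F.iso) : V ≃ₗ[K] V) v)) → α (q n) = q n')
    {θ : S → ℂ} (hθ : IsIrrCharacter S θ)
    (h0 : classInner (fun n : N => F.hc c (fun _ _ => 1) n) (fun n => θ (q n)) ≠ 0) : ExtTo θ (stab θ) := by
  have := ext_hc_sub F hk hNn hN hD hc hcusp hdual hself hopp hgen hnu hZ q hq hker ⊤ le_top (fun α _ => hAut α) hθ h0
  rwa [top_inf_eq] at this

end Row

end Cfsg.Agent.H576.Ext
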